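import Cfsg.Agent.Lib.ThreeCl.BT
import Cfsg.Agent.Lib.ThreeCl.ThmF
import Cfsg.Agent.S4033
import Cfsg.Agent.S0564

/-!
# Groups with class sizes `1, m, n`: first reductions
-/

set_option autoImplicit false
set_option linter.style.haveILetI false
set_option linter.unusedSectionVars false
set_option linter.unusedVariables false

namespace Cfsg.Agent.Lib.ConjRank2.Basic

open Subgroup Cfsg
open Cfsg.Agent.Lib.ClassGraph.Basic Cfsg.Agent.Lib.ClassGraph.Top Cfsg.Agent.Lib.ThreeCl

universe u

variable {G : Type u} [Group G] [Finite G]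

theorem solvable_of_quot_center (h : Group.IsSolvable (G ⧸ center G)) : Group.IsSolvable G := by
  haveI := h
  haveI hc : Group.IsSolvable (center G) := Group.isSolvable_of_comm (fun a b =>
    Subtype.ext (mem_center_iff.1 b.2 a))
  exact Group.isSolvable_of_ker_le_range (center G).subtype (QuotientGroup.mk' (center G)) (by
    rw [QuotientGroup.ker_mk', Subgroup.range_subtype])

/-- If noncentral primary elements only occur for two primes, the group is solvable. -/
theorem solvable_of_two {p q : ℕ} (hp : p.Prime) (hq : q.Prime)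
    (h : ∀ (r : ℕ), r.Prime → ∀ (g : G) (k : ℕ), g ^ r ^ k = 1 → g ∉ center G → r = p ∨ r = q) :
    Group.IsSolvable G := by
  apply solvable_of_quot_center
  have hne : Nat.card (G ⧸ center G) ≠ 0 := Nat.card_pos.ne'
  obtain ⟨i, j, hij⟩ := card_of_two_primes (n := Nat.card (G ⧸ center G)) hne hp hq (by
    intro r hr hrd
    haveI : Fact r.Prime := ⟨hr⟩
    obtain ⟨g, ⟨k, hk⟩, hg⟩ := exists_pelem_not_mem (center G) (p := r) hrd
    exact h r hr g k hk hg)
  exact Cfsg.Agent.Lib.Char.Burnside.isSolvable_of_card_eq p q i j hp hq hij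

/-- Lemma R: comparison of `r`-parts. -/
theorem factorization_lt {K K' : Subgroup G} {r : ℕ} (hr : r.Prime)
    (hK : ∀ g ∈ K, ∀ k : ℕ, g ^ r ^ k = 1 → g ∈ center G) (hZ : center G ≤ K')
    {b : G} (hbK' : b ∈ K') (hb : b ∉ center G) {k₀ : ℕ} (hb0 : b ^ r ^ k₀ = 1) :
    (Nat.card K).factorization r < (Nat.card K').factorization r := by
  haveI : Fact r.Prime := ⟨hr⟩
  obtain ⟨P⟩ : Nonempty (Sylow r K) := inferInstance
  let S : Subgroup G := (P : Subgroup K).map K.subtype
  have hSc : S ≤ center G := by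
    rintro _ ⟨x, hx, rfl⟩
    obtain ⟨k, hk⟩ := P.isPGroup' ⟨x, hx⟩
    exact hK _ x.2 k (by simpa using congrArg (fun w : P => ((w : K) : G)) hk)
  have hSp : IsPGroup r S := by
    rintro ⟨_, x, hx, rfl⟩
    obtain ⟨k, hk⟩ := P.isPGroup' ⟨x, hx⟩
    refine ⟨k, Subtype.ext ?_⟩
    simpa using congrArg (fun w : P => ((w : K) : G)) hk
  haveI hSn : S.Normal := by
    constructor
    intro n hn g
    have := mem_center_iff.1 (hSc hn) g
    rw [this]
    simpa using hn
  have hbp : IsPGroup r (zpowers b) := by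
    rintro ⟨_, i, rfl⟩
    refine ⟨k₀, Subtype.ext ?_⟩
    simp only [SubmonoidClass.coe_pow, OneMemClass.coe_one]
    change (b ^ i) ^ r ^ k₀ = 1
    rw [← zpow_natCast, ← zpow_mul, mul_comm, zpow_mul, zpow_natCast, hb0, one_zpow]
  have hTp : IsPGroup r ↥(zpowers b ⊔ S) := hbp.to_sup_of_normal_right hSp
  obtain ⟨j, hj⟩ := hTp.exists_card_eq
  have hTK : zpowers b ⊔ S ≤ K' := sup_le (by simpa using hbK') (hSc.trans hZ)
  have hSlt : S < zpowers b ⊔ S := by
    refine lt_of_le_of_ne le_sup_right ?_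
    intro e
    have h1 : b ∈ zpowers b ⊔ S := (le_sup_left : zpowers b ≤ _) (mem_zpowers b)
    rw [← e] at h1
    exact hb (hSc h1)
  have hcardS : Nat.card S = r ^ (Nat.card K).factorization r := by
    rw [← P.card_eq_multiplicity]
    exact Subgroup.card_map_of_injective K.subtype_injective
  have hlt : Nat.card S < Nat.card ↥(zpowers b ⊔ S) := lt_of_not_ge (fun hge => hSlt.ne (Subgroup.eq_of_le_of_card_ge hSlt.le hge))
  rw [hcardS, hj] at hlt
  have hvj : (Nat.card K).factorization r < j := (Nat.pow_lt_pow_iff_right hr.one_lt).1 hlt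
  have hdvd : r ^ j ∣ Nat.card K' := by
    rw [← hj]
    exact Subgroup.card_dvd_of_le hTK
  exact lt_of_lt_of_le hvj ((hr.pow_dvd_iff_le_factorization Nat.card_pos.ne').1 hdvd)

theorem ncard_range_two {K : Type*} [Group K] [Finite K] {p c : ℕ} (hc : c ≠ 1)
    (h1 : ∀ x : K, (orderOf x).Coprime p → cs x = 1 ∨ cs x = c) {y : K}
    (hy : (orderOf y).Coprime p) (hyc : cs y = c) :
    Set.ncard (Set.range fun x : {x : K // (orderOf x).Coprime p} =>
      (ConjClasses.mk (x : K)).carrier.ncard) = 2 := by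
  have e : (Set.range fun x : {x : K // (orderOf x).Coprime p} =>
      (ConjClasses.mk (x : K)).carrier.ncard) = {1, c} := by
    ext a
    simp only [Set.mem_range, Subtype.exists, Set.mem_insert_iff, Set.mem_singleton_iff]
    constructor
    · rintro ⟨x, hx, rfl⟩
      rw [Cfsg.Agent.Lib.ClassPow.ncard_carrier x]
      exact h1 x hx
    · rintro (rfl | rfl)
      · refine ⟨1, by simp, ?_⟩
        rw [Cfsg.Agent.Lib.ClassPow.ncard_carrier]
        exact cs_eq_one_iff.2 (one_mem _)
      · refine ⟨y, hy, ?_⟩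
        rw [Cfsg.Agent.Lib.ClassPow.ncard_carrier]
        exact hyc
  rw [e]
  exact Set.ncard_pair (Ne.symm hc)

/-- The solvability part of the second alternative of the two-size theorem. -/
theorem solvable_of_second {K : Type*} [Group K] [Finite K] {p q : ℕ} (hp : p.Prime) (hq : q.Prime)
    [Fact p.Prime] [Fact q.Prime]
    (P : Sylow p K) (Q : Sylow q K) (A : Subgroup K) (hA : A ≤ center K)
    (hc : Nat.card ↥((P : Subgroup K) ⊔ (Q : Subgroup K)) = Nat.card P * Nat.card Q)
    (hn : ((P : Subgroup K) ⊔ (Q : Subgroup K)).Normal)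
    (htop : ((P : Subgroup K) ⊔ (Q : Subgroup K)) ⊔ A = ⊤) : Group.IsSolvable K := by
  set N : Subgroup K := (P : Subgroup K) ⊔ (Q : Subgroup K) with hN
  haveI := hn
  obtain ⟨a, ha⟩ := P.isPGroup'.exists_card_eq
  obtain ⟨b, hb⟩ := Q.isPGroup'.exists_card_eq
  haveI hNs : Group.IsSolvable N := Cfsg.Agent.Lib.Char.Burnside.isSolvable_of_card_eq p q a b hp hq
    (by rw [hc]; congr 1)
  have hdec : ∀ g : K, ∃ n ∈ N, ∃ x ∈ A, g = n * x := by
    intro g
    have h2 : g ∈ N ⊔ A := by rw [htop]; trivial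
    have h3 : g ∈ ((N ⊔ A : Subgroup K) : Set K) := h2
    rw [Subgroup.normal_mul] at h3
    obtain ⟨n, hn, x, hx, e⟩ := Set.mem_mul.1 h3
    exact ⟨n, hn, x, hx, e.symm⟩
  haveI hQs : Group.IsSolvable (K ⧸ N) := by
    apply Group.isSolvable_of_comm
    intro u v
    obtain ⟨u, rfl⟩ := QuotientGroup.mk_surjective u
    obtain ⟨v, rfl⟩ := QuotientGroup.mk_surjective v
    obtain ⟨n₁, h₁, x₁, hx₁, rfl⟩ := hdec u
    obtain ⟨n₂, h₂, x₂, hx₂, rfl⟩ := hdec v
    have e1 : ((n₁ * x₁ : K) : K ⧸ N) = (x₁ : K) := by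
      rw [QuotientGroup.mk_mul, (QuotientGroup.eq_one_iff n₁).2 h₁, one_mul]
    have e2 : ((n₂ * x₂ : K) : K ⧸ N) = (x₂ : K) := by
      rw [QuotientGroup.mk_mul, (QuotientGroup.eq_one_iff n₂).2 h₂, one_mul]
    rw [e1, e2, ← QuotientGroup.mk_mul, ← QuotientGroup.mk_mul, mem_center_iff.1 (hA hx₁) x₂]
  exact Group.isSolvable_of_ker_le_range N.subtype (QuotientGroup.mk' N) (by
    rw [QuotientGroup.ker_mk', Subgroup.range_subtype])

theorem ab_nil {L : Subgroup G} (h : IsMulCommutative L) : Group.IsNilpotent L := by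
  letI : CommGroup L := { (inferInstance : Group L) with mul_comm := fun a b => h.is_comm.comm a b }
  infer_instance

/-- Lemma Q. -/
theorem solvable_of_one_size {s c : ℕ} (hs : s.Prime)
    (h : ∀ g : G, g ∉ center G → (orderOf g).Coprime s → cs g = c) : Group.IsSolvable G := by
  haveI : Fact s.Prime := ⟨hs⟩
  by_cases hex : ∃ g : G, g ∉ center G ∧ (orderOf g).Coprime s
  · obtain ⟨y, hy, hys⟩ := hex
    have hyc := h y hy hys
    have hc : c ≠ 1 := by
      intro e
      rw [e] at hyc
      exact hy (cs_eq_one_iff.1 hyc)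
    have h1 : ∀ x : G, (orderOf x).Coprime s → cs x = 1 ∨ cs x = c := by
      intro x hx
      by_cases hxc : x ∈ center G
      · exact Or.inl (cs_eq_one_iff.2 hxc)
      · exact Or.inr (h x hxc hx)
    rcases Cfsg.Agent.S4033.result hs (ncard_range_two hc h1 hys hyc) with
      ⟨H, hHc, hHs, k, hk⟩ | ⟨q, hq, P, Q, A, hqs, hA, hcard, hnorm, -, htop⟩
    · obtain ⟨P⟩ : Nonempty (Sylow s G) := inferInstance
      refine Cfsg.Agent.S0564.result (P : Subgroup G) H P.isPGroup'.isNilpotent
        (ab_nil hHc) ?_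
      intro g
      refine Cfsg.Agent.Lib.Solvable.HallRel.exists_mul_of_coprime_index _ _ ?_ g
      rw [hk]
      exact Nat.Coprime.pow_right _ ((Nat.Prime.coprime_iff_not_dvd hs).2 P.not_dvd_index).symm
    · exact solvable_of_second hs hq.out P Q A hA hcard hnorm htop
  · push Not at hex
    apply solvable_of_two hs hs
    intro r hr g k hk hg
    left
    by_contra hrs
    apply hg
    by_contra hg2
    refine hex g hg2 ?_
    exact Nat.Coprime.coprime_dvd_left (orderOf_dvd_of_pow_eq_one hk)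
      (Nat.Coprime.pow_left _ ((Nat.coprime_primes hr hs).2 hrs))

/-- A primary power of a noncentral element. -/
theorem exists_primary_power {g : G} (hg : g ∉ center G) :
    ∃ (r k : ℕ) (j : ℤ), r.Prime ∧ (g ^ j) ^ r ^ k = 1 ∧ g ^ j ∉ center G :=
  exists_primary_not_mem (center G) hg

/-- Powers of elements of order prime to `s` have order prime to `s`. -/
theorem coprime_zpow {g : G} {s : ℕ} (h : (orderOf g).Coprime s) (j : ℤ) :
    (orderOf (g ^ j)).Coprime s :=
  Nat.Coprime.coprime_dvd_left (orderOf_dvd_of_pow_eq_one (by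
    rw [← zpow_natCast, ← zpow_mul, mul_comm, zpow_mul, zpow_natCast, pow_orderOf_eq_one, one_zpow])) h

/-- A nontrivial primary element of order prime to `s` has prime different from `s`. -/
theorem prime_ne_of_coprime {b : G} {r k s : ℕ} (hb : b ≠ 1) (hr : r.Prime) (h : b ^ r ^ k = 1)
    (hc : (orderOf b).Coprime s) : r ≠ s := by
  rintro rfl
  have h1 : orderOf b ∣ r ^ k := orderOf_dvd_of_pow_eq_one h
  have h2 : orderOf b = 1 := Nat.Coprime.eq_one_of_dvd
    (Nat.Coprime.pow_right k hc) h1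
  exact hb (orderOf_eq_one_iff.1 h2)

/-- A primary element with prime different from `s` has order prime to `s`. -/
theorem coprime_of_prime_ne {b : G} {r k s : ℕ} (hr : r.Prime) (hs : s.Prime) (h : b ^ r ^ k = 1)
    (hrs : r ≠ s) : (orderOf b).Coprime s :=
  Nat.Coprime.coprime_dvd_left (orderOf_dvd_of_pow_eq_one h)
    (Nat.Coprime.pow_left _ ((Nat.coprime_primes hr hs).2 hrs))

theorem card_eq_of_cs_eq {x y : G} (h : cs x = cs y) :
    Nat.card (centralizer ({x} : Set G)) = Nat.card (centralizer ({y} : Set G)) := by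
  have h1 := Subgroup.card_mul_index (centralizer ({x} : Set G))
  have h2 := Subgroup.card_mul_index (centralizer ({y} : Set G))
  have hpos : 0 < (centralizer ({y} : Set G)).index := Nat.pos_of_ne_zero Subgroup.index_ne_zero_of_finite
  unfold cs at h
  rw [h] at h1
  exact Nat.eq_of_mul_eq_mul_right hpos (h1.trans h2.symm)

theorem center_le_cen (x : G) : center G ≤ centralizer ({x} : Set G) := by
  intro z hz
  exact mem_cen.2 (mem_center_iff.1 hz x).symm

theorem zpow_mem_cen (x : G) (j : ℤ) : x ^ j ∈ centralizer ({x} : Set G) :=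
  zpow_mem (mem_cen.2 rfl) j

/-- Lemma Q'. -/
theorem solvable_of_no_partner {m n : ℕ} (h : ∀ x : G, cs x = 1 ∨ cs x = m ∨ cs x = n)
    {y : G} {q k₀ : ℕ} (hq : q.Prime) (hy : y ∉ center G) (hy0 : y ^ q ^ k₀ = 1)
    (hp : ∀ b ∈ centralizer ({y} : Set G), ∀ r k : ℕ, r.Prime → r ≠ q → b ^ r ^ k = 1 →
      b ∈ center G) :
    Group.IsSolvable G := by
  have hne : ∀ g : G, g ∉ center G → (orderOf g).Coprime q → cs g ≠ cs y := by
    intro g hg hgq he
    obtain ⟨r, k, j, hr, hb, hbz⟩ := exists_primary_power hg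
    have hb1 : g ^ j ≠ 1 := fun e => hbz (e ▸ one_mem _)
    have hrq : r ≠ q := prime_ne_of_coprime hb1 hr hb (coprime_zpow hgq j)
    have := factorization_lt (K := centralizer ({y} : Set G)) (K' := centralizer ({g} : Set G)) hr
      (fun b hb k hk => hp b hb r k hr hrq hk) (center_le_cen g) (zpow_mem_cen g j) hbz hb
    rw [card_eq_of_cs_eq he] at this
    exact lt_irrefl _ this
  have hcy1 : cs y ≠ 1 := fun e => hy (cs_eq_one_iff.1 e)
  have hall : ∀ g : G, g ∉ center G → cs g = m ∨ cs g = n := by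
    intro g hg
    rcases h g with e | e | e
    · exact absurd (cs_eq_one_iff.1 e) hg
    · exact Or.inl e
    · exact Or.inr e
  by_cases hym : cs y = m
  · refine solvable_of_one_size (c := n) hq ?_
    intro g hg hgq
    rcases hall g hg with e | e
    · exact absurd (e.trans hym.symm) (hne g hg hgq)
    · exact e
  · refine solvable_of_one_size (c := m) hq ?_
    intro g hg hgq
    rcases hall g hg with e | e
    · exact e
    · rcases hall y hy with e2 | e2
      · exact absurd e2 hym
      · exact absurd (e.trans e2.symm) (hne g hg hgq)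

end Cfsg.Agent.Lib.ConjRank2.Basic
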