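import Cfsg.Agent.Lib.ConjRank2.LemmaX

/-!
# The chain case
-/

set_option autoImplicit false
set_option linter.style.haveILetI false
set_option linter.unusedSectionVars false
set_option linter.unusedVariables false

namespace Cfsg.Agent.Lib.ConjRank2.Chain

open Subgroup Cfsg MulAction
open Cfsg.Agent.Lib.ClassGraph.Basic Cfsg.Agent.Lib.ClassGraph.Top Cfsg.Agent.Lib.ThreeCl
open Cfsg.Agent.Lib.ConjRank2.Basic Cfsg.Agent.Lib.ConjRank2.Reg Cfsg.Agent.Lib.ConjRank2.Comps
open Cfsg.Agent.Lib.ConjRank2.LemmaX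

universe u

variable {G : Type u} [Group G] [Finite G] {m n : ℕ}

theorem cen_eq_of_mem_L (S : Sizes G m n) {x z : G} (hx : cs x = m)
    (hz : z ∈ centralizer ((centralizer ({x} : Set G) : Subgroup G) : Set G)) (hzc : z ∉ center G) :
    centralizer ({z} : Set G) = centralizer ({x} : Set G) := by
  have hle : centralizer ({x} : Set G) ≤ centralizer ({z} : Set G) := by
    intro c hc
    exact mem_cen.2 ((mem_centralizer_iff.1 hz) c hc)
  have hd : cs z ∣ cs x := index_dvd_of_le hle
  have hm := S.one_lt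
  have hmn := S.lt
  rw [hx] at hd
  have hz2 : cs z = m := by
    rcases S.nc hzc with e | e
    · exact e
    · rw [e] at hd
      have := Nat.le_of_dvd (by omega) hd
      omega
  exact (eq_of_le_of_index_eq hle (by
    change cs x = cs z
    rw [hx, hz2])).symm

/-- Finding an element `u` in the centre of `C`, noncentral in `G`, with a noncentral element `v`
of coprime order. -/
theorem exists_pair_or_solvable (S : Sizes G m n) {x y : G} (hxm : cs x = m) (hxz : x ∉ center G)
    (hyC : y ∈ centralizer ({x} : Set G))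
    (hyL : y ∉ centralizer ((centralizer ({x} : Set G) : Subgroup G) : Set G)) :
    (∃ (u v : G) (ℓ a : ℕ), ℓ.Prime ∧ u ∈ centralizer ((centralizer ({x} : Set G) : Subgroup G) : Set G) ∧
      u ∉ center G ∧ u ^ ℓ ^ a = 1 ∧ v ∈ centralizer ({x} : Set G) ∧
      v ∉ centralizer ((centralizer ({x} : Set G) : Subgroup G) : Set G) ∧ (orderOf v).Coprime ℓ) ∨
    Group.IsSolvable G := by
  set L := centralizer ((centralizer ({x} : Set G) : Subgroup G) : Set G) with hL
  have hxL : ∀ i : ℤ, x ^ i ∈ L := by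
    intro i
    rw [hL, mem_centralizer_iff]
    intro c hc
    exact (show Commute c x from mem_cen.1 hc).zpow_right i
  obtain ⟨p₀, a₀, i₀, hp₀, h₀, hz₀⟩ := exists_primary_power hxz
  obtain ⟨ℓ₀, b₀, i₁, hℓ₀, h₁, hy₁⟩ := exists_primary_not_mem L hyL
  have hy₁C : y ^ i₁ ∈ centralizer ({x} : Set G) := zpow_mem hyC i₁
  by_cases hne : p₀ = ℓ₀
  · subst hne
    by_cases hb : ∃ (b : G) (r c : ℕ), b ∈ centralizer ({x} : Set G) ∧ r.Prime ∧ r ≠ p₀ ∧
        b ^ r ^ c = 1 ∧ b ∉ center G
    · obtain ⟨b, r, c, hbC, hr, hrp, hb0, hbz⟩ := hb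
      left
      by_cases hbL : b ∈ L
      · exact ⟨b, y ^ i₁, r, c, hr, hbL, hbz, hb0, hy₁C, hy₁,
          coprime_of_prime_ne hp₀ hr h₁ hrp.symm⟩
      · exact ⟨x ^ i₀, b, p₀, a₀, hp₀, hxL i₀, hz₀, h₀, hbC, hbL,
          coprime_of_prime_ne hr hp₀ hb0 hrp⟩
    · right
      push Not at hb
      have hcen := cen_eq_of_mem_L S hxm (hxL i₀) hz₀
      refine solvable_of_no_partner S.mem hp₀ hz₀ h₀ ?_
      intro b hbC r k hr hrp hbk
      rw [hcen] at hbC
      by_contra hcon
      exact hcon (hb b r k hbC hr hrp hbk)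
  · left
    exact ⟨x ^ i₀, y ^ i₁, p₀, a₀, hp₀, hxL i₀, hz₀, h₀, hy₁C, hy₁,
      coprime_of_prime_ne hℓ₀ hp₀ h₁ (Ne.symm hne)⟩

/-- The main step with the pair given. -/
theorem solvable_of_pair (S : Sizes G m n) {k : ℕ} (hk : n = m * k) (hk1 : k ≠ 1) {u v : G}
    {ℓ a : ℕ} (hℓ : ℓ.Prime) (hu : cs u = m) (hu0 : u ^ ℓ ^ a = 1)
    (hv : v ∈ centralizer ({u} : Set G)) (hvc : (orderOf v).Coprime ℓ)
    (hvL : v ∉ centralizer ((centralizer ({u} : Set G) : Subgroup G) : Set G)) :
    Group.IsSolvable G := by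
  rcases structure_cen S hk hk1 hℓ hu hu0 hv hvc hvL with
    ⟨i, hi⟩ | ⟨q, i, i', A, hq, hqℓ, hA1, hA2, hidx, hsol⟩
  · have hi0 : i ≠ 0 := by
      rintro rfl
      exact hk1 (by simpa using hi)
    exact solvable_of_prime_power S (hi ▸ hk) hi0 hℓ
  · have hd : k ∣ ℓ ^ i * q ^ i' := by
      have h1 := relIndex_dvd_of_central hA2 hv
      rwa [relIndex_eq S hk hℓ hu hu0 hv hvc hvL, hidx] at h1
    by_cases hr : ∃ (r a₀ : ℕ) (t₀ : G), r.Prime ∧ r ≠ ℓ ∧ r ≠ q ∧ t₀ ∉ center G ∧ t₀ ^ r ^ a₀ = 1
    · obtain ⟨r, a₀, t₀, hr, hrℓ, hrq, ht₀, ht₀0⟩ := hr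
      have hrk : ¬ r ∣ k := by
        intro h
        rcases prime_dvd_mul_pow hr hℓ hq (h.trans hd) with h | h
        · exact hrℓ h
        · exact hrq h
      have hcop : ∀ (b : G) (c : ℕ), b ^ r ^ c = 1 →
          (orderOf b).Coprime (A.relIndex (centralizer ({u} : Set G))) := by
        intro b c hb
        rw [hidx]
        have h1 : (orderOf b).Coprime ℓ := coprime_of_prime_ne hr hℓ hb hrℓ
        have h2 : (orderOf b).Coprime q := coprime_of_prime_ne hr hq hb hrq
        exact Nat.Coprime.mul_right (Nat.Coprime.pow_right _ h1) (Nat.Coprime.pow_right _ h2)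
      have huz : u ∉ center G := not_mem_center_of_cs S hu
      obtain ⟨t, ht, htz, b, ht0⟩ := exists_primary_in_cen S hk hr hrk ht₀ ht₀0 huz
      have htA := mem_of_coprime_relIndex hA1 hA2 ht (hcop t b ht0)
      have hce := cen_eq_of_mem_L S hu (hA2 htA) htz
      have hcst : cs t = m := by
        rw [← hu]
        unfold cs
        rw [hce]
      haveI := hsol
      have hZ : center (centralizer ({u} : Set G)) ≠ ⊤ := by
        intro e
        have : (⟨v, hv⟩ : centralizer ({u} : Set G)) ∈ center (centralizer ({u} : Set G)) := by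
          rw [e]
          trivial
        exact hvL (mem_cen_of_subtype this)
      obtain ⟨s, e, hs, hse⟩ := Cfsg.Agent.Lib.ThreeCl.ThmF.thmF hZ (f := k) (by
        intro y hy r' k' hr' hy0
        have hy0' : (y : G) ^ r' ^ k' = 1 := by simpa using congrArg Subtype.val hy0
        have hyL : (y : G) ∉ centralizer ((centralizer ({u} : Set G) : Subgroup G) : Set G) :=
          fun h => hy (mem_center_of_subtype h)
        have hr'r : r' ≠ r := by
          rintro rfl
          exact hyL (hA2 (mem_of_coprime_relIndex hA1 hA2 y.2 (hcop _ _ hy0')))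
        rw [cs_subtype]
        have h9 := relIndex_eq S hk hr hcst ht0 (v := (y : G)) (by rw [hce]; exact y.2)
          (coprime_of_prime_ne hr' hr hy0' hr'r) (by rw [hce]; exact hyL)
        rw [hce] at h9
        exact h9)
      have he0 : e ≠ 0 := by
        rintro rfl
        exact hk1 (by simpa using hse)
      exact solvable_of_prime_power S (hse ▸ hk) he0 hs
    · push Not at hr
      refine solvable_of_two hℓ hq ?_
      intro r hr' g c hc hg
      by_contra hcon
      push Not at hcon
      exact hg (by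
        by_contra hg2
        exact hr r c g hr' hcon.1 hcon.2 hg2 hc)

/-- **The chain case.** -/
theorem solvable_of_chain (S : Sizes G m n) {x y : G} (hx : x ∉ center G) (hy : y ∉ center G)
    (hlt : centralizer ({y} : Set G) < centralizer ({x} : Set G)) : Group.IsSolvable G := by
  have hd : cs x ∣ cs y := index_dvd_of_le hlt.le
  have hne : cs y ≠ cs x := fun e => hlt.ne (eq_of_le_of_index_eq hlt.le e)
  have hm := S.one_lt
  have hmn := S.lt
  have hxm : cs x = m := by
    rcases S.nc hx with e | e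
    · exact e
    · rcases S.nc hy with e2 | e2
      · rw [e, e2] at hd
        have := Nat.le_of_dvd (by omega) hd
        omega
      · exact absurd (e2.trans e.symm) hne
  have hyn : cs y = n := by
    rcases S.nc hy with e2 | e2
    · exact absurd (e2.trans hxm.symm) hne
    · exact e2
  rw [hxm, hyn] at hd
  obtain ⟨k, hk⟩ := hd
  have hk1 : k ≠ 1 := by
    rintro rfl
    omega
  have hyC : y ∈ centralizer ({x} : Set G) := hlt.le (mem_cen.2 rfl)
  have hyL : y ∉ centralizer ((centralizer ({x} : Set G) : Subgroup G) : Set G) := by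
    intro h
    apply not_le_of_gt hlt
    intro c hc
    exact mem_cen.2 ((mem_centralizer_iff.1 h) c hc)
  rcases exists_pair_or_solvable S hxm hx hyC hyL with
    ⟨u, v, ℓ, a, hℓ, huL, huz, hu0, hvC, hvL, hvc⟩ | h
  · have hce := cen_eq_of_mem_L S hxm huL huz
    have hcsu : cs u = m := by
      rw [← hxm]
      unfold cs
      rw [hce]
    refine solvable_of_pair S hk hk1 hℓ hcsu hu0 (hce ▸ hvC) hvc ?_
    rw [hce]
    exact hvL
  · exact h

end Cfsg.Agent.Lib.ConjRank2.Chain
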