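import Cfsg.Agent.Lib.ConjRank2.Basic

/-!
# Centralisers of elements prime to `s`: the counting argument
-/

set_option autoImplicit false
set_option linter.style.haveILetI false
set_option linter.unusedSectionVars false
set_option linter.unusedVariables false

namespace Cfsg.Agent.Lib.ConjRank2.Comps

open Subgroup Cfsg MulAction
open Cfsg.Agent.Lib.ClassGraph.Basic Cfsg.Agent.Lib.ClassGraph.Top Cfsg.Agent.Lib.ThreeCl

universe u

/-- Orbits of a group action modulo `ε`. -/
theorem card_modEq_fixed {A X : Type*} [Group A] [MulAction A X] [Finite X] (ε : ℕ)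
    (h : ∀ x : X, x ∉ fixedPoints A X → ε ∣ Nat.card (orbit A x)) :
    Nat.card X ≡ Nat.card (fixedPoints A X) [MOD ε] := by
  classical
  have := Fintype.ofFinite X
  have := Fintype.ofFinite (fixedPoints A X)
  rw [Nat.card_eq_fintype_card, Nat.card_eq_fintype_card]
  calc Fintype.card X = Fintype.card (Σ y : Quotient (orbitRel A X), { x // Quotient.mk'' x = y }) :=
        Fintype.card_congr (Equiv.sigmaFiberEquiv (@Quotient.mk'' _ (orbitRel A X))).symm
    _ = ∑ a : Quotient (orbitRel A X), Fintype.card { x // Quotient.mk'' x = a } := Fintype.card_sigma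
    _ ≡ ∑ _a : fixedPoints A X, 1 [MOD ε] := ?_
    _ = _ := by simp
  rw [← ZMod.natCast_eq_natCast_iff _ _ ε, Nat.cast_sum, Nat.cast_sum]
  have key : ∀ x, Fintype.card { y // (Quotient.mk'' y : Quotient (orbitRel A X)) = Quotient.mk'' x } =
      Fintype.card (orbit A x) := fun x => by simp only [Quotient.eq'']; congr
  refine Eq.symm (Finset.sum_bij_ne_zero (fun a _ _ => Quotient.mk'' a.1)
    (fun _ _ _ => Finset.mem_univ _)
    (fun a₁ _ _ a₂ _ _ h => Subtype.ext (mem_fixedPoints'.1 a₂.2 a₁.1 (Quotient.exact' h)))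
    (fun b => Quotient.inductionOn' b fun b _ hb => ?_) fun a ha _ => by
      rw [key, mem_fixedPoints_iff_card_orbit_eq_one.mp a.2])
  by_cases hfix : b ∈ fixedPoints A X
  · refine ⟨⟨b, hfix⟩, Finset.mem_univ _, ?_, rfl⟩
    rw [key, mem_fixedPoints_iff_card_orbit_eq_one.mp hfix] at hb
    exact hb
  · exfalso
    apply hb
    rw [key, Fintype.card_eq_nat_card]
    exact (ZMod.natCast_eq_zero_iff _ _).2 (h b hfix)

variable {G : Type u} [Group G] [Finite G]

/-- Noncentral elements of order prime to `s`. -/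
def IsS (s : ℕ) (g : G) : Prop := g ∉ center G ∧ (orderOf g).Coprime s

theorem orderOf_conj (x g : G) : orderOf (x * g * x⁻¹) = orderOf g := by
  have := (MulAut.conj x).orderOf_eq g
  rwa [MulAut.conj_apply] at this

theorem isS_conj {s : ℕ} {g : G} (hg : IsS s g) (x : G) : IsS s (x * g * x⁻¹) := by
  refine ⟨?_, by rw [orderOf_conj]; exact hg.2⟩
  intro h
  apply hg.1
  have := mem_center_iff.1 h x
  have e : g = x⁻¹ * (x * g * x⁻¹) * x := by group
  rw [e, mul_assoc, ← this, ← mul_assoc, inv_mul_cancel, one_mul]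
  exact h

theorem mem_cen_conj {a x g : G} : a ∈ centralizer ({x * g * x⁻¹} : Set G) ↔
    x⁻¹ * a * x ∈ centralizer ({g} : Set G) := by
  rw [mem_cen, mem_cen]
  constructor
  · intro h
    calc x⁻¹ * a * x * g = x⁻¹ * (a * (x * g * x⁻¹)) * x := by group
      _ = x⁻¹ * ((x * g * x⁻¹) * a) * x := by rw [h]
      _ = g * (x⁻¹ * a * x) := by group
  · intro h
    calc a * (x * g * x⁻¹) = x * ((x⁻¹ * a * x) * g) * x⁻¹ := by group
      _ = x * (g * (x⁻¹ * a * x)) * x⁻¹ := by rw [h]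
      _ = x * g * x⁻¹ * a := by group

/-- The hypotheses of the counting argument. -/
structure Hyp (G : Type u) [Group G] (s : ℕ) : Prop where
  comm : ∀ g a : G, IsS s g → IsS s a → a ∈ centralizer ({g} : Set G) →
    centralizer ({a} : Set G) = centralizer ({g} : Set G)
  pair : ∀ g : G, IsS s g → ∃ t₁ t₂ : G, IsS s t₁ ∧ IsS s t₂ ∧ t₁ ∈ centralizer ({g} : Set G) ∧
    t₂ ∈ centralizer ({g} : Set G) ∧ (orderOf t₁).Coprime (orderOf t₂)

/-- Central elements of order prime to `s`. -/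
def Zs (G : Type u) [Group G] [Finite G] (s : ℕ) : Subgroup G where
  carrier := {z | z ∈ center G ∧ (orderOf z).Coprime s}
  mul_mem' := by
    rintro a b ⟨ha, ha'⟩ ⟨hb, hb'⟩
    refine ⟨mul_mem ha hb, ?_⟩
    have hc : Commute a b := (mem_center_iff.1 ha b).symm
    exact Nat.Coprime.coprime_dvd_left hc.orderOf_mul_dvd_mul_orderOf
      (Nat.Coprime.mul_left ha' hb')
  one_mem' := ⟨one_mem _, by simp⟩
  inv_mem' := by
    rintro a ⟨ha, ha'⟩
    exact ⟨inv_mem ha, by rwa [orderOf_inv]⟩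

variable {s : ℕ}

theorem cen_le_of_mem (H : Hyp G s) {g a : G} (hg : IsS s g) (ha : a ∈ centralizer ({g} : Set G))
    (has : (orderOf a).Coprime s) : centralizer ({g} : Set G) ≤ centralizer ({a} : Set G) := by
  by_cases hz : a ∈ center G
  · intro c _
    exact mem_cen.2 (mem_center_iff.1 hz c)
  · exact (H.comm g a hg ⟨hz, has⟩ ha).ge

/-- Elements of the centraliser of order prime to `s`. -/
def Aof (H : Hyp G s) (g : G) (hg : IsS s g) : Subgroup G where
  carrier := {a | a ∈ centralizer ({g} : Set G) ∧ (orderOf a).Coprime s}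
  mul_mem' := by
    rintro a b ⟨ha, ha'⟩ ⟨hb, hb'⟩
    refine ⟨mul_mem ha hb, ?_⟩
    have hc : Commute b a := mem_cen.1 (cen_le_of_mem H hg ha ha' hb)
    exact Nat.Coprime.coprime_dvd_left hc.symm.orderOf_mul_dvd_mul_orderOf
      (Nat.Coprime.mul_left ha' hb')
  one_mem' := ⟨one_mem _, by simp⟩
  inv_mem' := by
    rintro a ⟨ha, ha'⟩
    exact ⟨inv_mem ha, by rwa [orderOf_inv]⟩

theorem mem_Aof {H : Hyp G s} {g a : G} {hg : IsS s g} :
    a ∈ Aof H g hg ↔ a ∈ centralizer ({g} : Set G) ∧ (orderOf a).Coprime s := Iff.rfl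

theorem Zs_le_Aof (H : Hyp G s) (g : G) (hg : IsS s g) : Zs G s ≤ Aof H g hg := by
  rintro z ⟨hz, hz'⟩
  exact ⟨Basic.center_le_cen g hz, hz'⟩

/-- The index of the central part. -/
noncomputable def eps (H : Hyp G s) (g : G) (hg : IsS s g) : ℕ :=
  ((Zs G s).subgroupOf (Aof H g hg)).index

theorem eps_mul (H : Hyp G s) (g : G) (hg : IsS s g) :
    eps H g hg * Nat.card (Zs G s) = Nat.card (Aof H g hg) := by
  rw [eps, ← Subgroup.card_mul_index ((Zs G s).subgroupOf (Aof H g hg)), mul_comm]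
  congr 1
  exact (Nat.card_congr (Subgroup.subgroupOfEquivOfLe (Zs_le_Aof H g hg)).toEquiv).symm

theorem eps_eq (H : Hyp G s) {g g' : G} (hg : IsS s g) (hg' : IsS s g')
    (h : Nat.card (Aof H g hg) = Nat.card (Aof H g' hg')) : eps H g hg = eps H g' hg' := by
  have h1 := eps_mul H g hg
  have h2 := eps_mul H g' hg'
  rw [h, ← h2] at h1
  exact Nat.eq_of_mul_eq_mul_right Nat.card_pos h1

theorem smul_mk_eq_iff (A L : Subgroup G) (a : A) (x : G) :
    a • (x : G ⧸ L) = (x : G ⧸ L) ↔ x⁻¹ * a * x ∈ L := by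
  have e : a • (x : G ⧸ L) = (((a : G) * x : G) : G ⧸ L) := rfl
  rw [e, eq_comm, QuotientGroup.eq]
  have e2 : x⁻¹ * ((a : G) * x) = x⁻¹ * a * x := by group
  rw [e2]

/-- Stabilisers of the action on cosets are the central part unless the centralisers coincide. -/
theorem stabilizer_eq (H : Hyp G s) {g g' : G} (hg : IsS s g) (hg' : IsS s g') (x : G)
    (hne : centralizer ({x * g' * x⁻¹} : Set G) ≠ centralizer ({g} : Set G)) :
    stabilizer (Aof H g hg) ((x : G) : G ⧸ centralizer ({g'} : Set G)) =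
      (Zs G s).subgroupOf (Aof H g hg) := by
  ext a
  rw [mem_stabilizer_iff, smul_mk_eq_iff, ← mem_cen_conj, Subgroup.mem_subgroupOf]
  constructor
  · intro h
    have hcop : (orderOf (a : G)).Coprime s := a.2.2
    refine ⟨?_, hcop⟩
    by_contra hz
    have ha : IsS s (a : G) := ⟨hz, hcop⟩
    apply hne
    rw [← H.comm (x * g' * x⁻¹) a (isS_conj hg' x) ha h, ← H.comm g a hg ha a.2.1]
  · rintro ⟨hz, -⟩
    exact Basic.center_le_cen _ hz

theorem card_orbit_eq (H : Hyp G s) {g g' : G} (hg : IsS s g) (hg' : IsS s g') (x : G)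
    (hne : centralizer ({x * g' * x⁻¹} : Set G) ≠ centralizer ({g} : Set G)) :
    Nat.card (orbit (Aof H g hg) ((x : G) : G ⧸ centralizer ({g'} : Set G))) = eps H g hg := by
  rw [Nat.card_coe_set_eq, ← index_stabilizer, stabilizer_eq H hg hg' x hne, eps]

/-- If no conjugate of `g'` has the centraliser of `g`, then the index divides `cs g'`. -/
theorem eps_dvd_of_forall_ne (H : Hyp G s) {g g' : G} (hg : IsS s g) (hg' : IsS s g')
    (hne : ∀ x : G, centralizer ({x * g' * x⁻¹} : Set G) ≠ centralizer ({g} : Set G)) :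
    eps H g hg ∣ cs g' := by
  have h1 := card_modEq_fixed (A := Aof H g hg) (X := G ⧸ centralizer ({g'} : Set G)) (eps H g hg)
    (by
      intro q _
      obtain ⟨x, rfl⟩ := QuotientGroup.mk_surjective q
      rw [card_orbit_eq H hg hg' x (hne x)])
  by_cases he : Nonempty (fixedPoints (Aof H g hg) (G ⧸ centralizer ({g'} : Set G)))
  · obtain ⟨⟨q, hq⟩⟩ := he
    obtain ⟨x, rfl⟩ := QuotientGroup.mk_surjective q
    have h2 := card_orbit_eq H hg hg' x (hne x)
    haveI := Fintype.ofFinite (orbit (Aof H g hg) ((x : G) : G ⧸ centralizer ({g'} : Set G)))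
    rw [Nat.card_eq_fintype_card, mem_fixedPoints_iff_card_orbit_eq_one.mp hq] at h2
    rw [← h2]
    exact one_dvd _
  · rw [not_nonempty_iff] at he
    rw [show Nat.card (fixedPoints (Aof H g hg) (G ⧸ centralizer ({g'} : Set G))) = 0 from
      Nat.card_of_isEmpty] at h1
    exact (Nat.modEq_zero_iff_dvd.1 h1)

/-- Bezout for a subgroup. -/
theorem mem_of_pow_mem {L : Subgroup G} {h : G} {p q : ℕ} (hc : p.Coprime q) (h1 : h ^ p ∈ L)
    (h2 : h ^ q ∈ L) : h ∈ L := by
  have hbez : (1 : ℤ) = (p : ℤ) * Nat.gcdA p q + (q : ℤ) * Nat.gcdB p q := by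
    have := Nat.gcd_eq_gcd_ab p q
    rwa [hc, Nat.cast_one] at this
  have e : h = (h ^ p) ^ (Nat.gcdA p q) * (h ^ q) ^ (Nat.gcdB p q) := by
    rw [← zpow_natCast, ← zpow_natCast, ← zpow_mul, ← zpow_mul, ← zpow_add, ← hbez, zpow_one]
  rw [e]
  exact mul_mem (zpow_mem h1 _) (zpow_mem h2 _)

theorem conj_pow_of_twist {h t ξ : G} (hξ : ξ ∈ center G) (he : h * t * h⁻¹ = t * ξ) (i : ℕ) :
    h ^ i * t * (h ^ i)⁻¹ = t * ξ ^ i := by
  induction i with
  | zero => simp
  | succ i ih =>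
    have hc : ∀ w : G, w * ξ = ξ * w := fun w => (mem_center_iff.1 hξ w)
    calc h ^ (i + 1) * t * (h ^ (i + 1))⁻¹ = h * (h ^ i * t * (h ^ i)⁻¹) * h⁻¹ := by
          rw [pow_succ']; group
      _ = h * (t * ξ ^ i) * h⁻¹ := by rw [ih]
      _ = (h * t * h⁻¹) * ξ ^ i := by
          have hc2 : ∀ w : G, w * ξ ^ i = ξ ^ i * w := fun w =>
            (mem_center_iff.1 (pow_mem hξ i) w)
          calc h * (t * ξ ^ i) * h⁻¹ = h * t * (ξ ^ i * h⁻¹) := by group
            _ = h * t * (h⁻¹ * ξ ^ i) := by rw [hc2 h⁻¹]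
            _ = _ := by group
      _ = t * ξ * ξ ^ i := by rw [he]
      _ = t * ξ ^ (i + 1) := by rw [pow_succ']; group

/-- A twist by a central element becomes trivial after the order of `t`. -/
theorem pow_mem_cen_of_twist {h t ξ : G} (hξ : ξ ∈ center G) (he : h * t * h⁻¹ = t * ξ) :
    h ^ orderOf t ∈ centralizer ({t} : Set G) := by
  have h1 : ξ ^ orderOf t = 1 := by
    have h2 : (h * t * h⁻¹) ^ orderOf t = 1 := by
      rw [← MulAut.conj_apply, ← map_pow, pow_orderOf_eq_one, map_one]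
    rw [he, (show Commute t ξ from (mem_center_iff.1 hξ t)).mul_pow, pow_orderOf_eq_one,
      one_mul] at h2
    exact h2
  have h3 := conj_pow_of_twist hξ he (orderOf t)
  rw [h1, mul_one] at h3
  rw [mem_cen]
  calc h ^ orderOf t * t = (h ^ orderOf t * t * (h ^ orderOf t)⁻¹) * h ^ orderOf t := by group
    _ = t * h ^ orderOf t := by rw [h3]

/-- If `h` twists a product `v = t₁ t₂` by a central element then `h` centralises. -/
theorem mem_cen_of_twist {g t₁ t₂ h ξ : G} (hξ : ξ ∈ center G) (hc : Commute t₁ t₂)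
    (hcop : (orderOf t₁).Coprime (orderOf t₂))
    (h1 : centralizer ({t₁} : Set G) = centralizer ({g} : Set G))
    (h2 : centralizer ({t₂} : Set G) = centralizer ({g} : Set G))
    (he : h * (t₁ * t₂) * h⁻¹ = (t₁ * t₂) * ξ) : h ∈ centralizer ({g} : Set G) := by
  obtain ⟨k₁, hk₁⟩ := exists_zpow_eq hc hcop
  obtain ⟨k₂, hk₂⟩ := exists_zpow_eq hc.symm hcop.symm
  rw [hc.symm.eq] at hk₂
  have hcv : ∀ k : ℤ, h * (t₁ * t₂) ^ k * h⁻¹ = (t₁ * t₂) ^ k * ξ ^ k := by
    intro k
    have h3 : h * (t₁ * t₂) ^ k * h⁻¹ = (h * (t₁ * t₂) * h⁻¹) ^ k := by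
      rw [← MulAut.conj_apply, ← MulAut.conj_apply, map_zpow]
    rw [h3, he, (show Commute (t₁ * t₂) ξ from (mem_center_iff.1 hξ _)).mul_zpow]
  have e1 := hcv k₁
  have e2 := hcv k₂
  rw [hk₁] at e1
  rw [hk₂] at e2
  have a1 := pow_mem_cen_of_twist (zpow_mem hξ k₁) e1
  have a2 := pow_mem_cen_of_twist (zpow_mem hξ k₂) e2
  rw [h1] at a1
  rw [h2] at a2
  exact mem_of_pow_mem hcop a1 a2

theorem mul_not_mem_center {t₁ t₂ : G} (hc : Commute t₁ t₂) (hcop : (orderOf t₁).Coprime (orderOf t₂))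
    (h1 : t₁ ∉ center G) : t₁ * t₂ ∉ center G := by
  obtain ⟨k₁, hk₁⟩ := exists_zpow_eq hc hcop
  intro h
  exact h1 (hk₁ ▸ zpow_mem h k₁)

theorem nat_card_lt {α β : Type*} [Finite β] (f : α → β) (h : Function.Injective f) {b : β}
    (hb : b ∉ Set.range f) : Nat.card α < Nat.card β := by
  haveI : Finite α := Finite.of_injective f h
  haveI := Fintype.ofFinite α
  haveI := Fintype.ofFinite β
  rw [Nat.card_eq_fintype_card, Nat.card_eq_fintype_card]
  exact Fintype.card_lt_of_injective_of_notMem f h hb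

/-- The fixed points: number less than the index. -/
theorem card_fixed_lt (H : Hyp G s) {g : G} (hg : IsS s g) :
    Nat.card (fixedPoints (Aof H g hg) (G ⧸ centralizer ({g} : Set G))) < eps H g hg := by
  classical
  obtain ⟨t₁, t₂, ht₁, ht₂, ht₁g, ht₂g, hcop⟩ := H.pair g hg
  have hmt₁ : t₁ ∈ Aof H g hg := ⟨ht₁g, ht₁.2⟩
  have hmt₂ : t₂ ∈ Aof H g hg := ⟨ht₂g, ht₂.2⟩
  have hc12 : Commute t₁ t₂ := (mem_cen.1 (cen_le_of_mem H hg ht₁g ht₁.2 ht₂g)).symm
  have hC₁ := H.comm g t₁ hg ht₁ ht₁g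
  have hC₂ := H.comm g t₂ hg ht₂ ht₂g
  set v : G := t₁ * t₂ with hv
  have hvA : v ∈ Aof H g hg := mul_mem hmt₁ hmt₂
  have hvz : v ∉ center G := mul_not_mem_center hc12 hcop ht₁.1
  have hgA : g ∈ Aof H g hg := ⟨mem_cen.2 rfl, hg.2⟩
  -- `x v x⁻¹` lies in `Aof`
  have hconj : ∀ (q : fixedPoints (Aof H g hg) (G ⧸ centralizer ({g} : Set G))),
      (q.1.out) * v * (q.1.out)⁻¹ ∈ Aof H g hg := by
    intro q
    set x := q.1.out with hx
    have hq : ((x : G) : G ⧸ centralizer ({g} : Set G)) = q.1 := q.1.out_eq'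
    have h1 : (⟨g, hgA⟩ : Aof H g hg) • ((x : G) : G ⧸ centralizer ({g} : Set G)) =
        ((x : G) : G ⧸ centralizer ({g} : Set G)) := by
      rw [hq]
      exact q.2 _
    rw [smul_mk_eq_iff] at h1
    change x⁻¹ * g * x ∈ centralizer ({g} : Set G) at h1
    have hg₁ : IsS s (x⁻¹ * g * x) := by
      have := isS_conj hg x⁻¹
      rwa [inv_inv] at this
    have hcg := H.comm g _ hg hg₁ h1
    have hv1 : v ∈ centralizer ({x⁻¹ * g * x} : Set G) := by
      rw [hcg]
      exact hvA.1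
    refine ⟨?_, by rw [orderOf_conj]; exact hvA.2⟩
    rw [mem_cen] at hv1 ⊢
    calc x * v * x⁻¹ * g = x * (v * (x⁻¹ * g * x)) * x⁻¹ := by group
      _ = x * ((x⁻¹ * g * x) * v) * x⁻¹ := by rw [hv1]
      _ = g * (x * v * x⁻¹) := by group
  let φ : fixedPoints (Aof H g hg) (G ⧸ centralizer ({g} : Set G)) →
      (Aof H g hg) ⧸ (Zs G s).subgroupOf (Aof H g hg) :=
    fun q => ((⟨q.1.out * v * q.1.out⁻¹, hconj q⟩ : Aof H g hg) : _ ⧸ _)
  have hinj : Function.Injective φ := by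
    intro q q' he
    have h1 := QuotientGroup.eq.1 he
    rw [Subgroup.mem_subgroupOf] at h1
    set x := q.1.out with hx
    set y := q'.1.out with hy
    change (x * v * x⁻¹)⁻¹ * (y * v * y⁻¹) ∈ Zs G s at h1
    set ζ := (x * v * x⁻¹)⁻¹ * (y * v * y⁻¹) with hζ
    have hζc : ζ ∈ center G := h1.1
    have hζi : ζ⁻¹ ∈ center G := inv_mem hζc
    have e1 : y * v * y⁻¹ = x * v * x⁻¹ * ζ := by rw [hζ]; group
    have e2 : (y⁻¹ * x) * v * (y⁻¹ * x)⁻¹ = v * ζ⁻¹ := by
      have hcomm := mem_center_iff.1 hζc y⁻¹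
      have e3 : y⁻¹ * (y * v * y⁻¹) * y = v := by group
      rw [e1] at e3
      have e4 : y⁻¹ * (x * v * x⁻¹ * ζ) * y = (y⁻¹ * x) * v * (y⁻¹ * x)⁻¹ * (y⁻¹ * ζ * y) := by group
      have e5 : y⁻¹ * ζ * y = ζ := by
        rw [hcomm]; group
      rw [e4, e5] at e3
      exact eq_mul_inv_of_mul_eq e3
    have hh := mem_cen_of_twist hζi hc12 hcop hC₁ hC₂ e2
    have h3 : ((x : G) : G ⧸ centralizer ({g} : Set G)) = y := by
      rw [eq_comm, QuotientGroup.eq]
      exact hh
    apply Subtype.ext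
    have hq : ((x : G) : G ⧸ centralizer ({g} : Set G)) = q.1 := q.1.out_eq'
    have hq' : ((y : G) : G ⧸ centralizer ({g} : Set G)) = q'.1 := q'.1.out_eq'
    rw [← hq, ← hq', h3]
  have hnot : ((1 : Aof H g hg) : (Aof H g hg) ⧸ (Zs G s).subgroupOf (Aof H g hg)) ∉ Set.range φ := by
    rintro ⟨q, hq⟩
    have h1 := QuotientGroup.eq.1 hq
    rw [Subgroup.mem_subgroupOf] at h1
    have h2 : (q.1.out * v * q.1.out⁻¹)⁻¹ * 1 ∈ center G := h1.1
    rw [mul_one] at h2
    have h2 := inv_mem_iff.1 h2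
    exact (isS_conj (g := v) ⟨hvz, hvA.2⟩ q.1.out).1 h2
  exact nat_card_lt φ hinj hnot

theorem not_eps_dvd (H : Hyp G s) {g : G} (hg : IsS s g) : ¬ eps H g hg ∣ cs g := by
  intro hd
  have h1 := card_modEq_fixed (A := Aof H g hg) (X := G ⧸ centralizer ({g} : Set G)) (eps H g hg)
    (by
      intro q hq
      obtain ⟨x, rfl⟩ := QuotientGroup.mk_surjective q
      rw [card_orbit_eq H hg hg x]
      intro he
      refine hq (fun a => ?_)
      change a • ((x : G) : G ⧸ centralizer ({g} : Set G)) = ((x : G) : G ⧸ centralizer ({g} : Set G))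
      rw [smul_mk_eq_iff, ← mem_cen_conj, he]
      exact a.2.1)
  have h2 : eps H g hg ∣ Nat.card (fixedPoints (Aof H g hg) (G ⧸ centralizer ({g} : Set G))) :=
    (h1.dvd_iff dvd_rfl).1 hd
  have hpos : 0 < Nat.card (fixedPoints (Aof H g hg) (G ⧸ centralizer ({g} : Set G))) := by
    haveI : Nonempty (fixedPoints (Aof H g hg) (G ⧸ centralizer ({g} : Set G))) := by
      refine ⟨⟨((1 : G) : G ⧸ centralizer ({g} : Set G)), ?_⟩⟩
      intro a
      change a • ((1 : G) : G ⧸ centralizer ({g} : Set G)) = ((1 : G) : G ⧸ centralizer ({g} : Set G))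
      rw [smul_mk_eq_iff]
      simpa using a.2.1
    exact Nat.card_pos
  exact absurd (Nat.le_of_dvd hpos h2) (not_le.2 (card_fixed_lt H hg))

/-- **Comparison of centralisers**: when the subgroups of elements prime to `s` have the same order,
some conjugate of `g'` has the same centraliser as `g`. -/
theorem exists_conj_cen_eq (H : Hyp G s) {g g' : G} (hg : IsS s g) (hg' : IsS s g')
    (h : Nat.card (Aof H g hg) = Nat.card (Aof H g' hg')) :
    ∃ x : G, centralizer ({x * g' * x⁻¹} : Set G) = centralizer ({g} : Set G) := by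
  by_contra hcon
  push Not at hcon
  have h1 := eps_dvd_of_forall_ne H hg hg' hcon
  rw [eps_eq H hg hg' h] at h1
  exact not_eps_dvd H hg' h1

/-- Consequently the class sizes agree. -/
theorem cs_eq_of_card_eq (H : Hyp G s) {g g' : G} (hg : IsS s g) (hg' : IsS s g')
    (h : Nat.card (Aof H g hg) = Nat.card (Aof H g' hg')) : cs g = cs g' := by
  obtain ⟨x, hx⟩ := exists_conj_cen_eq H hg hg' h
  have : cs (x * g' * x⁻¹) = cs g' := cs_conj g' x
  rw [← this]
  unfold cs
  rw [hx]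

end Cfsg.Agent.Lib.ConjRank2.Comps
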