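import Cfsg.Agent.Lib.ConjRank2.Reg

/-!
# Class sizes `1, m, m s^j`
-/

set_option autoImplicit false
set_option linter.style.haveILetI false
set_option linter.unusedSectionVars false
set_option linter.unusedVariables false

namespace Cfsg.Agent.Lib.ConjRank2.LemmaX

open Subgroup Cfsg MulAction
open Cfsg.Agent.Lib.ClassGraph.Basic Cfsg.Agent.Lib.ClassGraph.Top Cfsg.Agent.Lib.ThreeCl
open Cfsg.Agent.Lib.ConjRank2.Basic Cfsg.Agent.Lib.ConjRank2.Reg Cfsg.Agent.Lib.ConjRank2.Comps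

universe u

variable {G : Type u} [Group G] [Finite G] {m n s j : ℕ}

theorem prime_dvd_mul_pow {d r q i i' : ℕ} (hd : d.Prime) (hr : r.Prime) (hq : q.Prime)
    (h : d ∣ r ^ i * q ^ i') : d = r ∨ d = q := by
  rcases (Nat.Prime.dvd_mul hd).1 h with h1 | h1
  · exact Or.inl ((Nat.prime_dvd_prime_iff_eq hd hr).1 (hd.dvd_of_dvd_pow h1))
  · exact Or.inr ((Nat.prime_dvd_prime_iff_eq hd hq).1 (hd.dvd_of_dvd_pow h1))

/-- Lemma L2. -/
theorem mem_center_cen (S : Sizes G m n) (hk : n = m * s ^ j) (hj : j ≠ 0) (hs : s.Prime)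
    {t w : G} {r ℓ a b : ℕ} (hr : r.Prime) (hℓ : ℓ.Prime) (hrs : r ≠ s) (hℓs : ℓ ≠ s) (hrℓ : r ≠ ℓ)
    (ht : t ∉ center G) (ht0 : t ^ r ^ a = 1) (hw : w ∈ centralizer ({t} : Set G))
    (hw0 : w ^ ℓ ^ b = 1) :
    w ∈ centralizer ((centralizer ({t} : Set G) : Subgroup G) : Set G) := by
  by_contra hwL
  have hcomm : Commute t w := (mem_cen.1 hw).symm
  have hcop := pelem_coprime hr hℓ hrℓ ht0 hw0
  have hk1 : s ^ j ≠ 1 := by
    intro e
    have := Nat.pow_eq_one.1 e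
    rcases this with h | h
    · exact hs.ne_one h
    · exact hj h
  have hsd : s ∣ s ^ j := dvd_pow_self s hj
  rcases S.nc ht with e | e
  · have hwc : (orderOf w).Coprime r := coprime_of_prime_ne hℓ hr hw0 hrℓ.symm
    rcases structure_cen S hk hk1 hr e ht0 hw hwc hwL with
      ⟨i, hi⟩ | ⟨q, i, i', A, hq, hqr, hA1, hA2, hidx, -⟩
    · rw [hi] at hsd
      exact hrs ((Nat.prime_dvd_prime_iff_eq hs hr).1 (hs.dvd_of_dvd_pow hsd)).symm
    · have hnot : ¬ (orderOf w).Coprime (A.relIndex (centralizer ({t} : Set G))) := by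
        intro hcp
        exact hwL (hA2 (mem_of_coprime_relIndex hA1 hA2 hw hcp))
      have hℓd : ℓ ∣ A.relIndex (centralizer ({t} : Set G)) := by
        by_contra hnd
        apply hnot
        exact Nat.Coprime.coprime_dvd_left (orderOf_dvd_of_pow_eq_one hw0)
          (Nat.Coprime.pow_left _ ((Nat.Prime.coprime_iff_not_dvd hℓ).2 hnd))
      rw [hidx] at hℓd
      have hℓq : ℓ = q := by
        rcases prime_dvd_mul_pow hℓ hr hq hℓd with h | h
        · exact absurd h.symm hrℓ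
        · exact h
      have hd := relIndex_dvd_of_central hA2 hw
      rw [relIndex_eq S hk hr e ht0 hw hwc hwL, hidx] at hd
      rcases prime_dvd_mul_pow hs hr hq (hsd.trans hd) with h | h
      · exact hrs h.symm
      · exact hℓs (hℓq.trans h.symm)
  · apply hwL
    have e1 := cen_mul_eq hcomm hcop
    have hle : centralizer ({t * w} : Set G) ≤ centralizer ({t} : Set G) := by
      rw [e1]; exact inf_le_left
    have hd : cs t ∣ cs (t * w) := index_dvd_of_le hle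
    have hm := S.one_lt
    have hmn := S.lt
    rcases S.mem (t * w) with e2 | e2 | e2
    · rw [e, e2] at hd
      have := Nat.le_of_dvd one_pos hd
      omega
    · rw [e, e2] at hd
      have := Nat.le_of_dvd (by omega) hd
      omega
    · have h3 := eq_of_le_of_index_eq hle (by
        change cs (t * w) = cs t
        rw [e, e2])
      rw [mem_centralizer_iff]
      intro c hc
      rw [← h3, e1] at hc
      exact mem_cen.1 hc.2

/-- Lemma L3. -/
theorem cen_eq_of_comm (S : Sizes G m n) (hk : n = m * s ^ j) (hj : j ≠ 0) (hs : s.Prime)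
    {t w : G} {r ℓ a b : ℕ} (hr : r.Prime) (hℓ : ℓ.Prime) (hrs : r ≠ s) (hℓs : ℓ ≠ s) (hrℓ : r ≠ ℓ)
    (ht : t ∉ center G) (hwz : w ∉ center G) (ht0 : t ^ r ^ a = 1)
    (hw : w ∈ centralizer ({t} : Set G)) (hw0 : w ^ ℓ ^ b = 1) :
    centralizer ({w} : Set G) = centralizer ({t} : Set G) := by
  have h1 := mem_center_cen S hk hj hs hr hℓ hrs hℓs hrℓ ht ht0 hw hw0
  have ht' : t ∈ centralizer ({w} : Set G) := mem_cen.2 (mem_cen.1 hw).symm
  have h2 := mem_center_cen S hk hj hs hℓ hr hℓs hrs hrℓ.symm hwz hw0 ht' ht0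
  apply le_antisymm
  · intro c hc
    exact mem_cen.2 ((mem_centralizer_iff.1 h2) c hc)
  · intro c hc
    exact mem_cen.2 ((mem_centralizer_iff.1 h1) c hc)

/-- Two primes different from `s` occur. -/
structure TwoPrimes (G : Type u) [Group G] (s : ℕ) where
  r₁ : ℕ
  r₂ : ℕ
  a₁ : ℕ
  a₂ : ℕ
  t₁ : G
  t₂ : G
  h₁ : r₁.Prime
  h₂ : r₂.Prime
  hs₁ : r₁ ≠ s
  hs₂ : r₂ ≠ s
  ne : r₁ ≠ r₂
  nc₁ : t₁ ∉ center G
  nc₂ : t₂ ∉ center G
  p₁ : t₁ ^ r₁ ^ a₁ = 1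
  p₂ : t₂ ^ r₂ ^ a₂ = 1

theorem TwoPrimes.exists_other (T : TwoPrimes G s) (r : ℕ) :
    ∃ (r' a : ℕ) (t : G), r'.Prime ∧ r' ≠ s ∧ r' ≠ r ∧ t ∉ center G ∧ t ^ r' ^ a = 1 := by
  by_cases h : T.r₁ = r
  · refine ⟨T.r₂, T.a₂, T.t₂, T.h₂, T.hs₂, ?_, T.nc₂, T.p₂⟩
    rw [← h]
    exact T.ne.symm
  · exact ⟨T.r₁, T.a₁, T.t₁, T.h₁, T.hs₁, h, T.nc₁, T.p₁⟩

theorem not_dvd_pow {r s j : ℕ} (hr : r.Prime) (hs : s.Prime) (hrs : r ≠ s) : ¬ r ∣ s ^ j := by
  intro h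
  exact hrs ((Nat.prime_dvd_prime_iff_eq hr hs).1 (hr.dvd_of_dvd_pow h))

/-- Lemma L4. -/
theorem cen_eq_of_comm' (S : Sizes G m n) (hk : n = m * s ^ j) (hj : j ≠ 0) (hs : s.Prime)
    (T : TwoPrimes G s)
    {t w : G} {r ℓ a b : ℕ} (hr : r.Prime) (hℓ : ℓ.Prime) (hrs : r ≠ s) (hℓs : ℓ ≠ s)
    (ht : t ∉ center G) (hwz : w ∉ center G) (ht0 : t ^ r ^ a = 1)
    (hw : w ∈ centralizer ({t} : Set G)) (hw0 : w ^ ℓ ^ b = 1) :
    centralizer ({w} : Set G) = centralizer ({t} : Set G) := by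
  by_cases hrℓ : r = ℓ
  · subst hrℓ
    obtain ⟨r', c, x, hr', hr's, hr'r, hxz, hx0⟩ := T.exists_other r
    obtain ⟨y, hy, hyz, d, hy0⟩ := exists_primary_in_cen S hk hr' (not_dvd_pow hr' hs hr's) hxz hx0 ht
    have h1 := cen_eq_of_comm S hk hj hs hr hr' hrs hr's hr'r.symm ht hyz ht0 hy hy0
    have hw' : w ∈ centralizer ({y} : Set G) := by rw [h1]; exact hw
    have h2 := cen_eq_of_comm S hk hj hs hr' hr hr's hrs hr'r hyz hwz hy0 hw' hw0
    rw [h2, h1]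
  · exact cen_eq_of_comm S hk hj hs hr hℓ hrs hℓs hrℓ ht hwz ht0 hw hw0

/-- Lemma L5. -/
theorem mem_center_cen' (S : Sizes G m n) (hk : n = m * s ^ j) (hj : j ≠ 0) (hs : s.Prime)
    (T : TwoPrimes G s)
    {t w : G} {r ℓ a b : ℕ} (hr : r.Prime) (hℓ : ℓ.Prime) (hrs : r ≠ s) (hℓs : ℓ ≠ s)
    (ht : t ∉ center G) (ht0 : t ^ r ^ a = 1)
    (hw : w ∈ centralizer ({t} : Set G)) (hw0 : w ^ ℓ ^ b = 1) :
    w ∈ centralizer ((centralizer ({t} : Set G) : Subgroup G) : Set G) := by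
  rw [mem_centralizer_iff]
  intro c hc
  by_cases hwz : w ∈ center G
  · exact mem_center_iff.1 hwz c
  · have h1 := cen_eq_of_comm' S hk hj hs T hr hℓ hrs hℓs ht hwz ht0 hw hw0
    rw [← h1] at hc
    exact mem_cen.1 hc

theorem exists_power (hs : s.Prime) {g : G} (hg : IsS s g) :
    ∃ (r a : ℕ) (i : ℤ), r.Prime ∧ r ≠ s ∧ (g ^ i) ^ r ^ a = 1 ∧ g ^ i ∉ center G := by
  obtain ⟨r, a, i, hr, h0, hz⟩ := exists_primary_power hg.1
  have hne : g ^ i ≠ 1 := fun e => hz (e ▸ one_mem _)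
  exact ⟨r, a, i, hr, prime_ne_of_coprime hne hr h0 (coprime_zpow hg.2 i), h0, hz⟩

/-- Lemma L6. -/
theorem cen_eq_of_power (S : Sizes G m n) (hk : n = m * s ^ j) (hj : j ≠ 0) (hs : s.Prime)
    (T : TwoPrimes G s)
    {g : G} (hg : IsS s g) {r a : ℕ} {i : ℤ} (hr : r.Prime) (hrs : r ≠ s)
    (h0 : (g ^ i) ^ r ^ a = 1) (hz : g ^ i ∉ center G) :
    centralizer ({g ^ i} : Set G) = centralizer ({g} : Set G) := by
  apply le_antisymm
  · have hmem : g ∈ centralizer ((centralizer ({g ^ i} : Set G) : Subgroup G) : Set G) := by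
      by_contra hcon
      obtain ⟨ℓ, b, i', hℓ, h1, h2⟩ := exists_primary_not_mem _ hcon
      have hne : g ^ i' ≠ 1 := fun e => h2 (e ▸ one_mem _)
      have hℓs := prime_ne_of_coprime hne hℓ h1 (coprime_zpow hg.2 i')
      have hmem' : g ^ i' ∈ centralizer ({g ^ i} : Set G) :=
        mem_cen.2 ((Commute.refl g).zpow_zpow i' i)
      exact h2 (mem_center_cen' S hk hj hs T hr hℓ hrs hℓs hz h0 hmem' h1)
    intro c hc
    exact mem_cen.2 ((mem_centralizer_iff.1 hmem) c hc)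
  · exact cen_le_of_zpow ⟨i, rfl⟩

/-- The hypotheses of the comparison. -/
theorem hyp (S : Sizes G m n) (hk : n = m * s ^ j) (hj : j ≠ 0) (hs : s.Prime)
    (T : TwoPrimes G s) : Hyp G s := by
  constructor
  · intro g a hg ha hag
    obtain ⟨r, c, i, hr, hrs, h0, hz⟩ := exists_power hs hg
    obtain ⟨ℓ, d, i', hℓ, hℓs, h0', hz'⟩ := exists_power hs ha
    have e1 := cen_eq_of_power S hk hj hs T hg hr hrs h0 hz
    have e2 := cen_eq_of_power S hk hj hs T ha hℓ hℓs h0' hz'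
    have hmem : a ^ i' ∈ centralizer ({g ^ i} : Set G) :=
      mem_cen.2 ((show Commute a g from mem_cen.1 hag).zpow_zpow i' i)
    have := cen_eq_of_comm' S hk hj hs T hr hℓ hrs hℓs hz hz' h0 hmem h0'
    rw [← e1, ← e2, this]
  · intro g hg
    obtain ⟨y₁, hy₁, hy₁z, d₁, h₁⟩ := exists_primary_in_cen S hk T.h₁ (not_dvd_pow T.h₁ hs T.hs₁)
      T.nc₁ T.p₁ hg.1
    obtain ⟨y₂, hy₂, hy₂z, d₂, h₂⟩ := exists_primary_in_cen S hk T.h₂ (not_dvd_pow T.h₂ hs T.hs₂)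
      T.nc₂ T.p₂ hg.1
    exact ⟨y₁, y₂, ⟨hy₁z, coprime_of_prime_ne T.h₁ hs h₁ T.hs₁⟩,
      ⟨hy₂z, coprime_of_prime_ne T.h₂ hs h₂ T.hs₂⟩, hy₁, hy₂, pelem_coprime T.h₁ T.h₂ T.ne h₁ h₂⟩

theorem eq_of_pow_mul_eq {s E E' a b : ℕ} (hs : s.Prime) (ha : ¬ s ∣ a) (hb : ¬ s ∣ b)
    (h : s ^ E * a = s ^ E' * b) : a = b := by
  have key : ∀ {E E' a b : ℕ}, ¬ s ∣ a → ¬ s ∣ b → E ≤ E' → s ^ E * a = s ^ E' * b → a = b := by
    intro E E' a b ha hb hle h
    obtain ⟨c, rfl⟩ := Nat.exists_eq_add_of_le hle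
    rw [pow_add, mul_assoc] at h
    have h1 := Nat.eq_of_mul_eq_mul_left (pow_pos hs.pos E) h
    rcases Nat.eq_zero_or_pos c with rfl | hc
    · simpa using h1
    · exfalso
      apply ha
      rw [h1]
      exact Dvd.dvd.mul_right (dvd_pow_self s hc.ne') _
  rcases le_total E E' with hle | hle
  · exact key ha hb hle h
  · exact (key hb ha hle h.symm).symm

theorem card_Aof_spec (S : Sizes G m n) (hk : n = m * s ^ j) (hs : s.Prime)
    (H : Hyp G s) {g : G} (hg : IsS s g) :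
    ¬ s ∣ Nat.card (Aof H g hg) ∧ ∃ E : ℕ, Nat.card (centralizer ({g} : Set G)) =
      s ^ E * Nat.card (Aof H g hg) := by
  haveI : Fact s.Prime := ⟨hs⟩
  constructor
  · intro hd
    obtain ⟨x, hx⟩ := exists_prime_orderOf_dvd_card' s hd
    have h1 : (orderOf (x : G)).Coprime s := x.2.2
    have h2 : orderOf (x : G) = orderOf x := Subgroup.orderOf_coe x
    rw [h2, hx] at h1
    exact hs.one_lt.ne' (by simpa using h1)
  · have hle : Aof H g hg ≤ centralizer ({g} : Set G) := fun a ha => ha.1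
    set C := centralizer ({g} : Set G) with hC
    have hidx : ∃ E : ℕ, (Aof H g hg).relIndex C = s ^ E := by
      refine ⟨_, Nat.eq_prime_pow_of_unique_prime_dvd (Subgroup.index_ne_zero_of_finite) ?_⟩
      intro d hd hdd
      by_contra hds
      haveI : Fact d.Prime := ⟨hd⟩
      obtain ⟨x, hxC, ⟨e, he⟩, hxA⟩ := exists_pelem_mem_not_mem C (Aof H g hg) hdd
      exact hxA ⟨hxC, coprime_of_prime_ne hd hs he hds⟩
    obtain ⟨E, hE⟩ := hidx
    refine ⟨E, ?_⟩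
    have h1 := Subgroup.card_mul_index ((Aof H g hg).subgroupOf C)
    have h2 : Nat.card ((Aof H g hg).subgroupOf C) = Nat.card (Aof H g hg) :=
      Nat.card_congr (Subgroup.subgroupOfEquivOfLe hle).toEquiv
    rw [h2] at h1
    change _ * (Aof H g hg).relIndex C = _ at h1
    rw [hE] at h1
    rw [← h1, mul_comm]

theorem card_Aof_eq (S : Sizes G m n) (hk : n = m * s ^ j) (hs : s.Prime)
    (H : Hyp G s) {g g' : G} (hg : IsS s g) (hg' : IsS s g') :
    Nat.card (Aof H g hg) = Nat.card (Aof H g' hg') := by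
  obtain ⟨h1, E, hE⟩ := card_Aof_spec S hk hs H hg
  obtain ⟨h2, E', hE'⟩ := card_Aof_spec S hk hs H hg'
  have hm0 : 0 < m := by have := S.one_lt; omega
  have key : ∀ z : G, z ∉ center G → ∃ F : ℕ, Nat.card G =
      s ^ F * (Nat.card (centralizer ({z} : Set G)) * m) ∨ Nat.card G =
      Nat.card (centralizer ({z} : Set G)) * m * s ^ F := by
    intro z hz
    have h0 := Subgroup.card_mul_index (centralizer ({z} : Set G))
    change _ * cs z = _ at h0
    rcases S.nc hz with e | e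
    · exact ⟨0, Or.inl (by rw [← h0, e]; ring)⟩
    · exact ⟨j, Or.inr (by rw [← h0, e, hk]; ring)⟩
  have key2 : ∀ z : G, z ∉ center G → ∃ F : ℕ, Nat.card G =
      s ^ F * (Nat.card (centralizer ({z} : Set G)) * m) := by
    intro z hz
    obtain ⟨F, h | h⟩ := key z hz
    · exact ⟨F, h⟩
    · exact ⟨F, by rw [h]; ring⟩
  obtain ⟨F, hF⟩ := key2 g hg.1
  obtain ⟨F', hF'⟩ := key2 g' hg'.1
  rw [hE] at hF
  rw [hE'] at hF'
  have h3 : s ^ (F + E) * (Nat.card (Aof H g hg) * m) = s ^ (F' + E') * (Nat.card (Aof H g' hg') * m) := by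
    calc s ^ (F + E) * (Nat.card (Aof H g hg) * m) = Nat.card G := by rw [hF]; ring
      _ = _ := by rw [hF']; ring
  have h4 : s ^ (F + E) * Nat.card (Aof H g hg) = s ^ (F' + E') * Nat.card (Aof H g' hg') := by
    apply Nat.eq_of_mul_eq_mul_right hm0
    calc _ = s ^ (F + E) * (Nat.card (Aof H g hg) * m) := by ring
      _ = _ := h3
      _ = _ := by ring
  exact eq_of_pow_mul_eq hs h1 h2 h4

/-- **Lemma X.** -/
theorem solvable_of_prime_power (S : Sizes G m n) (hk : n = m * s ^ j) (hj : j ≠ 0) (hs : s.Prime) :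
    Group.IsSolvable G := by
  by_cases hT : Nonempty (TwoPrimes G s)
  · obtain ⟨T⟩ := hT
    have H := hyp S hk hj hs T
    have hS₀ : IsS s T.t₁ := ⟨T.nc₁, coprime_of_prime_ne T.h₁ hs T.p₁ T.hs₁⟩
    refine solvable_of_one_size (c := cs T.t₁) hs ?_
    intro g hg hgs
    exact cs_eq_of_card_eq H ⟨hg, hgs⟩ hS₀ (card_Aof_eq S hk hs H _ _)
  · by_cases h1 : ∃ (r₀ a₀ : ℕ) (t₀ : G), r₀.Prime ∧ r₀ ≠ s ∧ t₀ ∉ center G ∧ t₀ ^ r₀ ^ a₀ = 1
    · obtain ⟨r₀, a₀, t₀, hr₀, hr₀s, ht₀, h0⟩ := h1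
      refine solvable_of_two hs hr₀ ?_
      intro r hr g k hk' hg
      by_contra hcon
      push Not at hcon
      exact hT ⟨⟨r, r₀, k, a₀, g, t₀, hr, hr₀, hcon.1, hr₀s, hcon.2, hg, ht₀, hk', h0⟩⟩
    · push Not at h1
      refine solvable_of_two hs hs ?_
      intro r hr g k hk' hg
      left
      by_contra hcon
      exact h1 r k g hr hcon hg hk'

end Cfsg.Agent.Lib.ConjRank2.LemmaX
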