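import Cfsg.Agent.Lib.ConjRank2.Chain
import Cfsg.Agent.Lib.Frobenius.Basic

/-!
# The case of no proper inclusion between centralisers
-/

set_option autoImplicit false
set_option linter.style.haveILetI false
set_option linter.unusedSectionVars false
set_option linter.unusedVariables false

namespace Cfsg.Agent.Lib.ConjRank2.NC

open Subgroup Cfsg MulAction
open Cfsg.Agent.Lib.ClassGraph.Basic Cfsg.Agent.Lib.ClassGraph.Top Cfsg.Agent.Lib.ThreeCl
open Cfsg.Agent.Lib.ConjRank2.Basic Cfsg.Agent.Lib.ConjRank2.Reg Cfsg.Agent.Lib.ConjRank2.Comps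
open scoped Pointwise

universe u

variable {G : Type u} [Group G] [Finite G] {m n : ℕ}

/-- No proper inclusion between centralisers of noncentral elements. -/
def NoChain (G : Type u) [Group G] : Prop :=
  ∀ x y : G, x ∉ center G → y ∉ center G → centralizer ({y} : Set G) ≤ centralizer ({x} : Set G) →
    centralizer ({y} : Set G) = centralizer ({x} : Set G)

/-- Each noncentral primary element has a partner for another prime. -/
def HasPartners (G : Type u) [Group G] : Prop :=
  ∀ (t : G) (r a : ℕ), r.Prime → t ∉ center G → t ^ r ^ a = 1 →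
    ∃ (w : G) (ℓ b : ℕ), ℓ.Prime ∧ ℓ ≠ r ∧ w ∈ centralizer ({t} : Set G) ∧ w ∉ center G ∧
      w ^ ℓ ^ b = 1

theorem cen_power (hNC : NoChain G) {g : G} {i : ℤ} (hg : g ∉ center G) (hz : g ^ i ∉ center G) :
    centralizer ({g ^ i} : Set G) = centralizer ({g} : Set G) :=
  (hNC (g ^ i) g hz hg (cen_le_of_zpow ⟨i, rfl⟩)).symm

theorem comm_distinct (hNC : NoChain G) {t w : G} {r ℓ a b : ℕ} (hr : r.Prime) (hℓ : ℓ.Prime)
    (hne : r ≠ ℓ) (ht : t ∉ center G) (hw : w ∉ center G) (ht0 : t ^ r ^ a = 1) (hw0 : w ^ ℓ ^ b = 1)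
    (hc : w ∈ centralizer ({t} : Set G)) : centralizer ({w} : Set G) = centralizer ({t} : Set G) := by
  have hcomm : Commute t w := (mem_cen.1 hc).symm
  have hcop := pelem_coprime hr hℓ hne ht0 hw0
  have hz := mul_not_mem_center hcomm hcop ht
  have e1 := cen_mul_eq hcomm hcop
  have h1 := hNC t (t * w) ht hz (by rw [e1]; exact inf_le_left)
  have h2 := hNC w (t * w) hw hz (by rw [e1]; exact inf_le_right)
  rw [← h1, ← h2]

theorem comm_primary (hNC : NoChain G) (hP : HasPartners G) {t w : G} {r ℓ a b : ℕ} (hr : r.Prime)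
    (hℓ : ℓ.Prime) (ht : t ∉ center G) (hw : w ∉ center G) (ht0 : t ^ r ^ a = 1) (hw0 : w ^ ℓ ^ b = 1)
    (hc : w ∈ centralizer ({t} : Set G)) : centralizer ({w} : Set G) = centralizer ({t} : Set G) := by
  by_cases hne : r = ℓ
  · subst hne
    obtain ⟨y, ℓ', d, hℓ', hne', hy, hyz, hy0⟩ := hP t r a hr ht ht0
    have h1 := comm_distinct hNC hr hℓ' hne'.symm ht hyz ht0 hy0 hy
    have hc' : w ∈ centralizer ({y} : Set G) := by rw [h1]; exact hc
    have h2 := comm_distinct hNC hℓ' hr hne' hyz hw hy0 hw0 hc'
    rw [h2, h1]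
  · exact comm_distinct hNC hr hℓ hne ht hw ht0 hw0 hc

theorem isS_one {g : G} (hg : g ∉ center G) : IsS 1 g := ⟨hg, Nat.coprime_one_right _⟩

theorem hyp (hNC : NoChain G) (hP : HasPartners G) : Hyp G 1 := by
  constructor
  · intro g a hg ha hag
    obtain ⟨r, c, i, hr, h0, hz⟩ := exists_primary_power hg.1
    obtain ⟨ℓ, d, i', hℓ, h0', hz'⟩ := exists_primary_power ha.1
    have e1 := cen_power hNC hg.1 hz
    have e2 := cen_power hNC ha.1 hz'
    have hmem : a ^ i' ∈ centralizer ({g ^ i} : Set G) :=
      mem_cen.2 ((show Commute a g from mem_cen.1 hag).zpow_zpow i' i)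
    have := comm_primary hNC hP hr hℓ hz hz' h0 h0' hmem
    rw [← e1, ← e2, this]
  · intro g hg
    obtain ⟨r, c, i, hr, h0, hz⟩ := exists_primary_power hg.1
    obtain ⟨y, ℓ', d, hℓ', hne', hy, hyz, hy0⟩ := hP _ r c hr hz h0
    have e1 := cen_power hNC hg.1 hz
    refine ⟨g ^ i, y, isS_one hz, isS_one hyz, zpow_mem_cen g i, e1 ▸ hy, ?_⟩
    exact pelem_coprime hr hℓ' hne'.symm h0 hy0

theorem card_Aof_one (H : Hyp G 1) {g : G} (hg : IsS 1 g) :
    Nat.card (Aof H g hg) = Nat.card (centralizer ({g} : Set G)) := by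
  have : Aof H g hg = centralizer ({g} : Set G) := by
    ext a
    exact ⟨fun h => h.1, fun h => ⟨h, Nat.coprime_one_right _⟩⟩
  rw [this]

theorem exists_conj (H : Hyp G 1) {g g' : G} (hg : g ∉ center G) (hg' : g' ∉ center G)
    (h : cs g = cs g') : ∃ x : G, centralizer ({x * g' * x⁻¹} : Set G) = centralizer ({g} : Set G) :=
  exists_conj_cen_eq H (isS_one hg) (isS_one hg') (by
    rw [card_Aof_one, card_Aof_one]
    exact card_eq_of_cs_eq h)

/-- Counting elements with conjugates in a subgroup, modulo a normal subgroup. -/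
theorem count_union' [Fintype G] (D N Z : Subgroup G) (hZD : Z ≤ D) [hZn : Z.Normal]
    (hN : ∀ n ∈ N, ∀ c ∈ D, n⁻¹ * c * n ∈ D) (S : Finset G) (h1 : ∀ s ∈ S, s ∉ Z)
    (hS : ∀ s ∈ S, ∃ g : G, g * s * g⁻¹ ∈ D) :
    Nat.card N * S.card ≤ Nat.card G * (Nat.card D - Nat.card Z) := by
  classical
  let Hs : Finset G := Finset.univ.filter (fun t => t ∈ D ∧ t ∉ Z)
  have hHs : Hs.card = Nat.card D - Nat.card Z := by
    have h2 : Hs = (Finset.univ.filter (fun t => t ∈ D)) \ (Finset.univ.filter (fun t => t ∈ Z)) := by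
      ext t
      simp [Hs]
    rw [h2, Finset.card_sdiff_of_subset (by
      intro t ht
      simp only [Finset.mem_filter, Finset.mem_univ, true_and] at ht ⊢
      exact hZD ht)]
    rw [Nat.card_eq_fintype_card, Nat.card_eq_fintype_card, Fintype.card_subtype, Fintype.card_subtype]
  let s : Finset (G × G) := Finset.univ ×ˢ Hs
  let φ : G × G → G := fun p => p.1 * p.2 * p.1⁻¹
  have hs : s.card = Nat.card G * (Nat.card D - Nat.card Z) := by
    rw [Finset.card_product, hHs, Finset.card_univ, Nat.card_eq_fintype_card (α := G)]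
  rw [← hs]
  have hsub : S ⊆ s.image φ := by
    intro z hz
    obtain ⟨g, hg⟩ := hS z hz
    refine Finset.mem_image.2 ⟨(g⁻¹, g * z * g⁻¹), Finset.mem_product.2 ⟨Finset.mem_univ _,
      Finset.mem_filter.2 ⟨Finset.mem_univ _, hg, ?_⟩⟩, ?_⟩
    · intro h2
      apply h1 z hz
      have := hZn.conj_mem _ h2 g⁻¹
      have e : g⁻¹ * (g * z * g⁻¹) * g⁻¹⁻¹ = z := by group
      rwa [e] at this
    · simp only [φ]
      group
  have h2 : Nat.card N * (s.image φ).card ≤ s.card := by
    refine Finset.mul_card_image_le_card_of_maps_to (f := φ) (fun a ha => Finset.mem_image_of_mem _ ha) _ ?_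
    intro b hb
    obtain ⟨p₀, hp₀, rfl⟩ := Finset.mem_image.1 hb
    have hp₀2 := (Finset.mem_filter.1 (Finset.mem_product.1 hp₀).2).2
    rw [Nat.card_eq_fintype_card, Fintype.card_subtype]
    refine Finset.card_le_card_of_injOn (fun n => (p₀.1 * n, n⁻¹ * p₀.2 * n)) ?_ ?_
    · intro n hn
      have hn' : n ∈ N := by simpa using hn
      refine Finset.mem_filter.2 ⟨Finset.mem_product.2 ⟨Finset.mem_univ _,
        Finset.mem_filter.2 ⟨Finset.mem_univ _, hN n hn' _ hp₀2.1, ?_⟩⟩, ?_⟩
      · intro h3
        apply hp₀2.2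
        have := hZn.conj_mem _ h3 n
        have e : n * (n⁻¹ * p₀.2 * n) * n⁻¹ = p₀.2 := by group
        rwa [e] at this
      · simp only [φ]
        group
    · intro n _ n' _ e
      have := congrArg Prod.fst e
      exact mul_left_cancel this
  exact (Nat.mul_le_mul_left _ (Finset.card_le_card hsub)).trans h2

theorem norm_conj_mem {x n c : G} (hn : n ∈ normalizer ((centralizer ({x} : Set G) : Subgroup G) : Set G))
    (hc : c ∈ centralizer ({x} : Set G)) : n⁻¹ * c * n ∈ centralizer ({x} : Set G) := by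
  have h1 := inv_mem hn
  rw [mem_normalizer_iff] at h1
  have h2 := (h1 c).1 hc
  rwa [inv_inv] at h2

/-- The elementary count for one family of conjugate centralisers. -/
theorem count_family [Fintype G] (H : Hyp G 1) {x : G} (hx : x ∉ center G) (hxn : normalizer
      ((centralizer ({x} : Set G) : Subgroup G) : Set G) ≠ centralizer ({x} : Set G)) (P : Finset G)
    (hP : ∀ g ∈ P, g ∉ center G ∧ cs g = cs x) :
    2 * P.card + 2 * ((normalizer ((centralizer ({x} : Set G) : Subgroup G) : Set G)).index *
      Nat.card (center G)) ≤ Nat.card G := by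
  classical
  set D := centralizer ({x} : Set G) with hD
  set N := normalizer ((D : Subgroup G) : Set G) with hNdef
  have hDN : D ≤ N := Subgroup.le_normalizer
  have hZD : center G ≤ D := center_le_cen x
  have h1 := count_union' D N (center G) hZD (fun n hn c hc => norm_conj_mem hn hc) P
    (fun s hs => (hP s hs).1) (by
      intro s hs
      obtain ⟨u, hu⟩ := exists_conj H hx (hP s hs).1 (hP s hs).2.symm
      refine ⟨u, ?_⟩
      rw [hD, ← hu]
      exact mem_cen.2 rfl)
  have hcard := Subgroup.card_mul_index N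
  set a := N.index with ha
  have hNpos : 0 < Nat.card N := Nat.card_pos
  have hz : Nat.card (center G) ≤ Nat.card D := Nat.le_of_dvd Nat.card_pos (Subgroup.card_dvd_of_le hZD)
  have h2 : P.card ≤ a * (Nat.card D - Nat.card (center G)) := by
    rw [← hcard, mul_assoc] at h1
    exact Nat.le_of_mul_le_mul_left h1 hNpos
  have h3 : a * (Nat.card D - Nat.card (center G)) + a * Nat.card (center G) = a * Nat.card D := by
    rw [← mul_add, Nat.sub_add_cancel hz]
  have h4 : 2 * Nat.card D ≤ Nat.card N := by
    have hd := Subgroup.card_dvd_of_le hDN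
    obtain ⟨c, hc⟩ := hd
    have hc1 : c ≠ 1 := by
      rintro rfl
      rw [mul_one] at hc
      exact hxn (Subgroup.eq_of_le_of_card_ge hDN hc.le).symm
    have hc0 : c ≠ 0 := by
      rintro rfl
      rw [mul_zero] at hc
      exact hNpos.ne' hc
    have hc2 : 2 ≤ c := by omega
    rw [hc, mul_comm]
    exact Nat.mul_le_mul_left _ hc2
  have h5 : a * (2 * Nat.card D) ≤ Nat.card G := by
    rw [← hcard, mul_comm (Nat.card N)]
    exact Nat.mul_le_mul_left _ h4
  nlinarith

/-- One of the normalisers equals the centraliser. -/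
theorem norm_eq_or (H : Hyp G 1) {x y : G} (hx : x ∉ center G) (hy : y ∉ center G)
    (hall : ∀ g : G, g ∉ center G → cs g = cs x ∨ cs g = cs y) :
    normalizer ((centralizer ({x} : Set G) : Subgroup G) : Set G) = centralizer ({x} : Set G) ∨
    normalizer ((centralizer ({y} : Set G) : Subgroup G) : Set G) = centralizer ({y} : Set G) := by
  classical
  haveI := Fintype.ofFinite G
  by_contra hcon
  push Not at hcon
  obtain ⟨h1, h2⟩ := hcon
  let P₁ : Finset G := Finset.univ.filter (fun g => g ∉ center G ∧ cs g = cs x)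
  let P₂ : Finset G := Finset.univ.filter (fun g => g ∉ center G ∧ cs g = cs y)
  let Zf : Finset G := Finset.univ.filter (fun g => g ∈ center G)
  have hcount₁ := count_family H hx h1 P₁ (fun g hg => by
    simpa [P₁] using hg)
  have hcount₂ := count_family H hy h2 P₂ (fun g hg => by
    simpa [P₂] using hg)
  have hZcard : Zf.card = Nat.card (center G) := by
    rw [Nat.card_eq_fintype_card, Fintype.card_subtype]
  have hcov : Nat.card G ≤ P₁.card + P₂.card + Zf.card := by
    rw [Nat.card_eq_fintype_card, ← Finset.card_univ]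
    have hsub : (Finset.univ : Finset G) ⊆ P₁ ∪ P₂ ∪ Zf := by
      intro g _
      simp only [Finset.mem_union, P₁, P₂, Zf, Finset.mem_filter, Finset.mem_univ, true_and]
      by_cases hg : g ∈ center G
      · exact Or.inr hg
      · rcases hall g hg with e | e
        · exact Or.inl (Or.inl ⟨hg, e⟩)
        · exact Or.inl (Or.inr ⟨hg, e⟩)
    exact (Finset.card_le_card hsub).trans ((Finset.card_union_le _ _).trans
      (Nat.add_le_add_right (Finset.card_union_le _ _) _))
  rw [hZcard] at hcov
  set z := Nat.card (center G) with hz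
  have hzpos : 0 < z := Nat.card_pos
  have ha₁ : 0 < (normalizer ((centralizer ({x} : Set G) : Subgroup G) : Set G)).index :=
    Nat.pos_of_ne_zero Subgroup.index_ne_zero_of_finite
  have ha₂ : 0 < (normalizer ((centralizer ({y} : Set G) : Subgroup G) : Set G)).index :=
    Nat.pos_of_ne_zero Subgroup.index_ne_zero_of_finite
  have h3 := Nat.le_mul_of_pos_left z ha₁
  have h4 := Nat.le_mul_of_pos_left z ha₂
  omega

/-- Membership in the image in `G / Z`. -/
theorem mem_of_mk_mem {D : Subgroup G} (hZD : center G ≤ D) {t : G}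
    (h : ((t : G) : G ⧸ center G) ∈ D.map (QuotientGroup.mk' (center G))) : t ∈ D := by
  obtain ⟨d, hd, e⟩ := h
  have h1 : d⁻¹ * t ∈ center G := QuotientGroup.eq.1 e
  have h2 : t = d * (d⁻¹ * t) := by group
  rw [h2]
  exact mul_mem hd (hZD h1)

/-- The final step: self-normalising abelian centraliser. -/
theorem solvable_of_norm (H : Hyp G 1) {x : G} (hx : x ∉ center G)
    (hn : normalizer ((centralizer ({x} : Set G) : Subgroup G) : Set G) = centralizer ({x} : Set G)) :
    Group.IsSolvable G := by
  apply solvable_of_quot_center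
  set D := centralizer ({x} : Set G) with hD
  have hZD : center G ≤ D := center_le_cen x
  have hxD : x ∈ D := mem_cen.2 rfl
  have hDne : D ≠ ⊤ := by
    intro e
    apply hx
    apply cs_eq_one_iff.1
    unfold cs
    rw [← hD, e]
    exact index_top
  have hS1 : ∀ g : G, IsS 1 g ↔ g ∉ center G := fun g =>
    ⟨fun h => h.1, fun h => isS_one h⟩
  let Hb : Subgroup (G ⧸ center G) := D.map (QuotientGroup.mk' (center G))
  have hF : IsFrobeniusComplement Hb := by
    refine ⟨?_, ?_, ?_⟩
    · intro e
      have h1 : ((x : G) : G ⧸ center G) ∈ Hb := ⟨x, hxD, rfl⟩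
      rw [e, mem_bot] at h1
      exact hx ((QuotientGroup.eq_one_iff x).1 h1)
    · intro e
      apply hDne
      rw [eq_top_iff]
      intro g _
      apply mem_of_mk_mem hZD
      change ((g : G) : G ⧸ center G) ∈ Hb
      rw [e]
      trivial
    · intro gb hgb
      obtain ⟨u, rfl⟩ := QuotientGroup.mk_surjective gb
      have hu : u ∉ D := fun h => hgb ⟨u, h, rfl⟩
      rw [eq_bot_iff]
      intro tb htb
      obtain ⟨h1, h2⟩ := mem_inf.1 htb
      obtain ⟨t, rfl⟩ := QuotientGroup.mk_surjective tb
      rw [Cfsg.Agent.Lib.Frobenius.Basic.mem_conj_iff] at h2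
      have h3 : t ∈ D := mem_of_mk_mem hZD h1
      have h4 : u⁻¹ * t * u ∈ D := by
        apply mem_of_mk_mem hZD
        exact h2
      rw [mem_bot, QuotientGroup.eq_one_iff]
      by_contra htz
      -- `t` is noncentral and lies in `D` and in the conjugate of `D`
      have e1 := H.comm x t (isS_one hx) (isS_one htz) h3
      have h5 : t ∈ centralizer ({u * x * u⁻¹} : Set G) := mem_cen_conj.2 h4
      have e2 := H.comm (u * x * u⁻¹) t (isS_conj (isS_one hx) u) (isS_one htz) h5
      have e3 : centralizer ({u * x * u⁻¹} : Set G) = D := by rw [← e2, e1]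
      have e5 : ∀ h : G, u⁻¹ * (u * h * u⁻¹) * u = h := fun h => by group
      have hnorm : u ∈ normalizer ((D : Subgroup G) : Set G) := by
        rw [mem_normalizer_iff]
        intro h
        constructor
        · intro hh
          have h6 : u * h * u⁻¹ ∈ centralizer ({u * x * u⁻¹} : Set G) :=
            mem_cen_conj.2 (by rw [e5]; exact hh)
          rw [e3] at h6
          exact h6
        · intro hh
          have h6 : u * h * u⁻¹ ∈ centralizer ({u * x * u⁻¹} : Set G) := by
            rw [e3]
            exact hh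
          have h7 := mem_cen_conj.1 h6
          rw [e5] at h7
          exact h7
      rw [hn] at hnorm
      exact hu hnorm
  refine Cfsg.Agent.Lib.ThreeCl.BT.solvable_of_frob hF ?_
  apply Group.isSolvable_of_comm
  rintro ⟨_, a, ha, rfl⟩ ⟨_, b, hb, rfl⟩
  apply Subtype.ext
  have hab : a * b = b * a := by
    have := cen_le_of_mem H (isS_one hx) ha (Nat.coprime_one_right _) hb
    exact (mem_cen.1 this).symm
  change ((a : G) : G ⧸ center G) * ((b : G) : G ⧸ center G) = ((b : G) : G ⧸ center G) * ((a : G) : G ⧸ center G)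
  rw [← QuotientGroup.mk_mul, ← QuotientGroup.mk_mul, hab]

/-- **The non-chain case.** -/
theorem solvable_of_noChain (S : Sizes G m n) (hNC : NoChain G) {x y : G} (hx : cs x = m)
    (hy : cs y = n) : Group.IsSolvable G := by
  by_cases hP : HasPartners G
  · have H := hyp hNC hP
    have hxz := not_mem_center_of_cs S hx
    have hyz : y ∉ center G := by
      intro hz
      have := cs_eq_one_iff.2 hz
      have := S.one_lt
      have := S.lt
      omega
    rcases norm_eq_or H hxz hyz (by
      intro g hg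
      rw [hx, hy]
      exact S.nc hg) with h | h
    · exact solvable_of_norm H hxz h
    · exact solvable_of_norm H hyz h
  · unfold HasPartners at hP
    push Not at hP
    obtain ⟨t, r, a, hr, ht, ht0, hno⟩ := hP
    refine solvable_of_no_partner S.mem hr ht ht0 ?_
    intro b hb ℓ c hℓ hℓr hb0
    by_contra hbz
    exact hno b ℓ c hℓ hℓr hb hbz hb0

end Cfsg.Agent.Lib.ConjRank2.NC
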