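import Cfsg.Agent.Lib.ConjRank2.Comps

/-!
# The structure of a centraliser of a primary element of small class size
-/

set_option autoImplicit false
set_option linter.style.haveILetI false
set_option linter.unusedSectionVars false
set_option linter.unusedVariables false

namespace Cfsg.Agent.Lib.ConjRank2.Reg

open Subgroup Cfsg MulAction
open Cfsg.Agent.Lib.ClassGraph.Basic Cfsg.Agent.Lib.ClassGraph.Top Cfsg.Agent.Lib.ThreeCl
open Cfsg.Agent.Lib.ConjRank2.Basic

universe u

variable {G : Type u} [Group G] [Finite G]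

/-- The class sizes are `1, m, n`. -/
structure Sizes (G : Type u) [Group G] (m n : ℕ) : Prop where
  one_lt : 1 < m
  lt : m < n
  mem : ∀ x : G, cs x = 1 ∨ cs x = m ∨ cs x = n

variable {m n k : ℕ}

theorem Sizes.nc (S : Sizes G m n) {x : G} (hx : x ∉ center G) : cs x = m ∨ cs x = n := by
  rcases S.mem x with e | e | e
  · exact absurd (cs_eq_one_iff.1 e) hx
  · exact Or.inl e
  · exact Or.inr e

theorem not_mem_center_of_cs {x : G} (S : Sizes G m n) (h : cs x = m) : x ∉ center G := by
  intro hz
  have := cs_eq_one_iff.2 hz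
  have := S.one_lt
  omega

/-- Lemma Reg. -/
theorem relIndex_eq (S : Sizes G m n) (hk : n = m * k) {u v : G} {ℓ a : ℕ} (hℓ : ℓ.Prime)
    (hu : cs u = m) (hu0 : u ^ ℓ ^ a = 1) (hv : v ∈ centralizer ({u} : Set G))
    (hvc : (orderOf v).Coprime ℓ) (hvL : v ∉ centralizer ((centralizer ({u} : Set G) : Subgroup G) : Set G)) :
    (centralizer ({v} : Set G)).relIndex (centralizer ({u} : Set G)) = k := by
  have hcomm : Commute u v := (mem_cen.1 hv).symm
  have hcop : (orderOf u).Coprime (orderOf v) :=
    Nat.Coprime.coprime_dvd_left (orderOf_dvd_of_pow_eq_one hu0) (Nat.Coprime.pow_left _ hvc.symm)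
  have e1 := cen_mul_eq hcomm hcop
  have hle : centralizer ({u * v} : Set G) ≤ centralizer ({u} : Set G) := by
    rw [e1]; exact inf_le_left
  have h1 := relIndex_mul_index hle
  have h2 : (centralizer ({u * v} : Set G)).relIndex (centralizer ({u} : Set G)) =
      (centralizer ({v} : Set G)).relIndex (centralizer ({u} : Set G)) := by
    rw [e1, inf_relIndex_left]
  rw [h2] at h1
  change _ * cs u = cs (u * v) at h1
  rw [hu] at h1
  have hm := S.one_lt
  rcases S.mem (u * v) with e | e | e
  · rw [e] at h1
    have h3 : m ∣ 1 := Dvd.intro_left _ h1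
    have := Nat.le_of_dvd one_pos h3
    omega
  · exfalso
    apply hvL
    have h3 := eq_of_le_of_index_eq hle (by
      change cs (u * v) = cs u
      rw [e, hu])
    rw [mem_centralizer_iff]
    intro c hc
    rw [← h3, e1] at hc
    exact mem_cen.1 hc.2
  · rw [e, hk, mul_comm] at h1
    exact Nat.eq_of_mul_eq_mul_left (by omega) h1

/-- Central subgroups: membership via coprimality of the index. -/
theorem mem_of_coprime_relIndex {C A : Subgroup G} (hAC : A ≤ C)
    (hAL : A ≤ centralizer ((C : Subgroup G) : Set G)) {t : G} (ht : t ∈ C)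
    (hc : (orderOf t).Coprime (A.relIndex C)) : t ∈ A := by
  haveI hn : (A.subgroupOf C).Normal := by
    constructor
    intro a ha g
    rw [mem_subgroupOf] at ha ⊢
    have h1 : (g : G) * a = a * g := (mem_centralizer_iff.1 (hAL ha)) _ g.2
    have e : ((g * a * g⁻¹ : C) : G) = a := by
      simp only [Subgroup.coe_mul, Subgroup.coe_inv]
      rw [h1]
      group
    rw [e]
    exact ha
  have := mem_of_coprime_index (A.subgroupOf C) (g := (⟨t, ht⟩ : C)) (by
    rw [Subgroup.orderOf_mk]
    exact hc)
  exact mem_subgroupOf.1 this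

theorem relIndex_dvd_of_central {C A : Subgroup G}
    (hAL : A ≤ centralizer ((C : Subgroup G) : Set G)) {v : G} (hv : v ∈ C) :
    (centralizer ({v} : Set G)).relIndex C ∣ A.relIndex C := by
  apply relIndex_dvd_of_le_left
  intro a ha
  exact mem_cen.2 ((mem_centralizer_iff.1 (hAL ha)) _ hv).symm

theorem mem_center_of_subtype {C : Subgroup G} {x : C}
    (h : (x : G) ∈ centralizer ((C : Subgroup G) : Set G)) : x ∈ center C := by
  rw [mem_center_iff]
  intro g
  apply Subtype.ext
  exact (mem_centralizer_iff.1 h) _ g.2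

theorem mem_cen_of_subtype {C : Subgroup G} {x : C}
    (h : x ∈ center C) : (x : G) ∈ centralizer ((C : Subgroup G) : Set G) := by
  rw [mem_centralizer_iff]
  intro g hg
  exact congrArg Subtype.val (mem_center_iff.1 h ⟨g, hg⟩)

/-- Lemma Two: the structure of the centraliser. -/
theorem structure_cen (S : Sizes G m n) (hk : n = m * k) (hk1 : k ≠ 1) {u v : G} {ℓ a : ℕ}
    (hℓ : ℓ.Prime) (hu : cs u = m) (hu0 : u ^ ℓ ^ a = 1) (hv : v ∈ centralizer ({u} : Set G))
    (hvc : (orderOf v).Coprime ℓ)
    (hvL : v ∉ centralizer ((centralizer ({u} : Set G) : Subgroup G) : Set G)) :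
    (∃ i : ℕ, k = ℓ ^ i) ∨ (∃ (q i j : ℕ) (A : Subgroup G), q.Prime ∧ q ≠ ℓ ∧
      A ≤ centralizer ({u} : Set G) ∧
      A ≤ centralizer ((centralizer ({u} : Set G) : Subgroup G) : Set G) ∧
      A.relIndex (centralizer ({u} : Set G)) = ℓ ^ i * q ^ j ∧
      Group.IsSolvable (centralizer ({u} : Set G))) := by
  haveI : Fact ℓ.Prime := ⟨hℓ⟩
  set C := centralizer ({u} : Set G) with hC
  have hcsC : ∀ x : C, (orderOf x).Coprime ℓ → x ∉ center C → cs x = k := by
    intro x hx hxc
    rw [cs_subtype]
    apply relIndex_eq S hk hℓ hu hu0 x.2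
    · have e0 : orderOf (x : G) = orderOf x := Subgroup.orderOf_coe x
      rw [e0]
      exact hx
    · intro h
      exact hxc (mem_center_of_subtype h)
  have hvC : (⟨v, hv⟩ : C) ∉ center C := fun h => hvL (mem_cen_of_subtype h)
  have hvo : (orderOf (⟨v, hv⟩ : C)).Coprime ℓ := by
    rw [Subgroup.orderOf_mk]
    exact hvc
  have h1 : ∀ x : C, (orderOf x).Coprime ℓ → cs x = 1 ∨ cs x = k := by
    intro x hx
    by_cases hxc : x ∈ center C
    · exact Or.inl (cs_eq_one_iff.2 hxc)
    · exact Or.inr (hcsC x hx hxc)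
  rcases Cfsg.Agent.S4033.result hℓ (ncard_range_two hk1 h1 hvo (hcsC _ hvo hvC)) with
    ⟨H, hHc, hHs, i, hi⟩ | ⟨q, hq, P, Q, A, hqs, hA, hcard, hnorm, hbot, htop⟩
  · left
    have hex : ∃ b ∈ H, b ∉ center C := by
      by_contra hcon
      push Not at hcon
      have hHn : H.Normal := by
        constructor
        intro n hn g
        have := mem_center_iff.1 (hcon n hn) g
        rw [this]
        simpa using hn
      have := mem_of_coprime_index H (g := (⟨v, hv⟩ : C)) (by
        rw [hi]
        exact Nat.Coprime.pow_right _ hvo)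
      exact hvC (hcon _ this)
    obtain ⟨b, hbH, hbz⟩ := hex
    have hbo : (orderOf b).Coprime ℓ := by
      have h2 : orderOf b ∣ Nat.card H := by
        have := Subgroup.orderOf_dvd_natCard H hbH
        exact this
      apply Nat.Coprime.symm
      rw [Nat.Prime.coprime_iff_not_dvd hℓ]
      exact fun h3 => hHs (h3.trans h2)
    have hle : H ≤ centralizer ({b} : Set C) := by
      intro c hc
      rw [mem_cen]
      have := hHc.is_comm.comm ⟨c, hc⟩ ⟨b, hbH⟩
      exact congrArg Subtype.val this
    have h2 : cs b ∣ H.index := index_dvd_of_le hle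
    rw [hcsC b hbo hbz, hi] at h2
    obtain ⟨i', -, hi'⟩ := (Nat.dvd_prime_pow hℓ).1 h2
    exact ⟨i', hi'⟩
  · right
    obtain ⟨a₁, ha₁⟩ := P.isPGroup'.exists_card_eq
    obtain ⟨b₁, hb₁⟩ := Q.isPGroup'.exists_card_eq
    have hsol := solvable_of_second hℓ hq.out P Q A hA hcard hnorm htop
    set N : Subgroup C := (P : Subgroup C) ⊔ (Q : Subgroup C) with hN
    haveI := hnorm
    have hcompl : IsComplement' N A := by
      refine isComplement'_of_disjoint_and_mul_eq_univ ?_ ?_
      · rw [disjoint_iff]
        exact hbot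
      · rw [← Subgroup.normal_mul, htop]
        rfl
    have hidx : A.index = Nat.card N := hcompl.index_eq_card
    refine ⟨q, a₁, b₁, A.map C.subtype, hq.out, hqs, ?_, ?_, ?_, hsol⟩
    · rintro _ ⟨x, -, rfl⟩
      exact x.2
    · rintro _ ⟨x, hx, rfl⟩
      exact mem_cen_of_subtype (hA hx)
    · have e0 : (A.map C.subtype).subgroupOf C = A :=
        Subgroup.comap_map_eq_self_of_injective C.subtype_injective A
      rw [relIndex, e0, hidx, hcard, ha₁, hb₁]

/-- The order of a centraliser is determined at `r` when `r` does not divide `k`. -/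
theorem factorization_card_eq (S : Sizes G m n) (hk : n = m * k) {r : ℕ}
    (hrk : ¬ r ∣ k) {x y : G} (hx : x ∉ center G) (hy : y ∉ center G) :
    (Nat.card (centralizer ({x} : Set G))).factorization r =
      (Nat.card (centralizer ({y} : Set G))).factorization r := by
  have hm0 : m ≠ 0 := by have := S.one_lt; omega
  have hk0 : k ≠ 0 := by
    rintro rfl
    have := S.lt
    have := S.one_lt
    simp at hk
    omega
  have key : ∀ z : G, z ∉ center G → (Nat.card (centralizer ({z} : Set G))).factorization r +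
      m.factorization r = (Nat.card G).factorization r := by
    intro z hz
    have h0 := Subgroup.card_mul_index (centralizer ({z} : Set G))
    change _ * cs z = _ at h0
    have hc0 : Nat.card (centralizer ({z} : Set G)) ≠ 0 := Nat.card_pos.ne'
    rw [← h0]
    rcases S.nc hz with e | e
    · rw [e, Nat.factorization_mul hc0 hm0]
      rfl
    · rw [e, hk, Nat.factorization_mul hc0 (mul_ne_zero hm0 hk0), Nat.factorization_mul hm0 hk0]
      simp only [Finsupp.add_apply]
      rw [Nat.factorization_eq_zero_of_not_dvd hrk]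
      rfl
  have h1 := key x hx
  have h2 := key y hy
  omega

/-- Lemma L1: every centraliser contains primary elements for the primes not dividing `k`. -/
theorem exists_primary_in_cen (S : Sizes G m n) (hk : n = m * k) {r c : ℕ} (hr : r.Prime)
    (hrk : ¬ r ∣ k) {t₀ : G} (ht₀ : t₀ ∉ center G) (ht₀0 : t₀ ^ r ^ c = 1) {g : G}
    (hg : g ∉ center G) : ∃ t ∈ centralizer ({g} : Set G), t ∉ center G ∧ ∃ b : ℕ, t ^ r ^ b = 1 := by
  by_contra hcon
  push Not at hcon
  have h1 := factorization_lt (K := centralizer ({g} : Set G)) (K' := centralizer ({t₀} : Set G)) hr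
    (fun b hb i hi => by
      by_contra hz
      exact hcon b hb hz i hi) (center_le_cen t₀) (mem_cen.2 rfl) ht₀ ht₀0
  rw [factorization_card_eq S hk hrk hg ht₀] at h1
  exact lt_irrefl _ h1

end Cfsg.Agent.Lib.ConjRank2.Reg
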